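import Cfsg.Agent.Lib.Helper28.O73C.Comp
import Cfsg.Agent.Lib.Helper12.O73.Tup

/-!
Project O73C (S5514): the definitions connecting the computational layer (`Comp`) with the isometry
group of the seven dimensional orthogonal space over the field with three elements (helper28).
-/

set_option autoImplicit false

namespace Cfsg.Agent.Lib.Helper28.O73C

open Cfsg.Agent.Lib.Helper12.O73

/-- the isometry group `GO_7(3)` -/
abbrev GO : Type := ↥(Cfsg.isometryGroup K (Cfsg.quadFormOdd 3 K))

/-- its commutator subgroup `Ω_7(3)` -/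
abbrev Om : Subgroup GO := Cfsg.Omega K (Cfsg.quadFormOdd 3 K)

/-- the matrix of an isometry -/
abbrev GO.mat (g : GO) : Matrix I7 I7 K := ((g : Matrix.GeneralLinearGroup I7 K) : Matrix I7 I7 K)

/-- the vector encoded by seven natural numbers -/
def V7.toVec (a : V7) : I7 → K :=
  vec ((a.a0 : K), (a.a1 : K), (a.a2 : K), (a.a3 : K), (a.a4 : K), (a.a5 : K), (a.a6 : K))

/-- the columns of an encoded matrix -/
def M7.col (m : M7) : I7 → V7 :=
  Sum.elim (fun _ => m.c0) (Sum.elim ![m.c1, m.c2, m.c3] ![m.c4, m.c5, m.c6])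

/-- the matrix encoded by seven columns -/
def M7.toMat (m : M7) : Matrix I7 I7 K := Matrix.of fun i j => (m.col j).toVec i

/-- the isometry `g` has the encoded matrix `m` -/
def Rep (g : GO) (m : M7) : Prop := g.mat = m.toMat

/-- the position of a basis vector in the flag order `x1 < x2 < x3 < e0 < y3 < y2 < y1` -/
def rk : I7 → ℕ := Sum.elim (fun _ => 3) (Sum.elim ![0, 1, 2] ![6, 5, 4])

/-- flag-unitriangular isometries: the Sylow 3-subgroup -/
def IsFU (g : GO) : Prop := Matrix.BlockTriangular g.mat rk ∧ ∀ i, g.mat i i = 1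

/-- the stabiliser of the totally singular subspace `X` spanned by `x1, x2, x3` -/
def InP3 (g : GO) : Prop :=
  ∀ j : Fin 3, g.mat (Sum.inl ()) (Sum.inr (Sum.inl j)) = 0 ∧
    ∀ i : Fin 3, g.mat (Sum.inr (Sum.inr i)) (Sum.inr (Sum.inl j)) = 0

/-- the action on `X` -/
def aX (g : GO) : Matrix (Fin 3) (Fin 3) K :=
  Matrix.of fun i j => g.mat (Sum.inr (Sum.inl i)) (Sum.inr (Sum.inl j))

/-- the action on `X^⊥ / X` -/
def eps (g : GO) : K := g.mat (Sum.inl ()) (Sum.inl ())

end Cfsg.Agent.Lib.Helper28.O73C
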