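import Cfsg.Agent.Lib.Helper28.O73C.Defs
import Cfsg.Agent.Lib.Helper22.O73CCA
import Cfsg.Agent.Lib.Helper16.SpinG2

/-!
Project O73C (S5514), piece CI (the same statement as `exists_rep`, under the name `h28_exists_rep`): an encoded matrix passing `isoChk` is an isometry (helper28).
-/

set_option autoImplicit false

namespace Cfsg.Agent.Lib.Helper28.O73C

open Cfsg.Agent.Lib.Helper12.O73 Cfsg.Agent.Lib.Helper16 Matrix

theorem h28ci_col (m : M7) (j : I7) : m.toMat *ᵥ Pi.single j 1 = (m.col j).toVec := by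
  rw [Matrix.mulVec_single_one]
  funext i
  rfl

theorem h28ci_one_col (j : I7) : (one7.col j).toVec = Pi.single j 1 := by
  rw [← h28ci_col, toMat_one7, Matrix.one_mulVec]

/-- the polar form on the columns equals the polar form on the basis -/
theorem h28ci_polar_col (m : M7) (h : isoChk m = true) (i j : I7) :
    QuadraticMap.polar (Cfsg.quadFormOdd 3 K) (m.col i).toVec (m.col j).toVec =
      QuadraticMap.polar (Cfsg.quadFormOdd 3 K) (one7.col i).toVec (one7.col j).toVec := by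
  simp only [isoChk, Bool.and_eq_true, decide_eq_true_eq] at h
  obtain ⟨⟨⟨⟨⟨⟨⟨⟨⟨⟨⟨⟨⟨⟨⟨⟨⟨⟨⟨⟨⟨⟨⟨⟨⟨⟨⟨q0, q1⟩, q2⟩, q3⟩, q4⟩, q5⟩, q6⟩, b01⟩, b02⟩, b03⟩, b04⟩, b05⟩, b06⟩,
    b12⟩, b13⟩, b14⟩, b15⟩, b16⟩, b23⟩, b24⟩, b25⟩, b26⟩, b34⟩, b35⟩, b36⟩, b45⟩, b46⟩, b56⟩ := h
  have hq : ∀ a : V7, QuadraticMap.polar (Cfsg.quadFormOdd 3 K) a.toVec a.toVec =
      2 * ((qV a : ℕ) : K) := by
    intro a
    rw [qV_spec, ← Q7_coe, QuadraticMap.polar_self]
    simp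
  have hc : ∀ a b : V7, QuadraticMap.polar (Cfsg.quadFormOdd 3 K) a.toVec b.toVec =
      QuadraticMap.polar (Cfsg.quadFormOdd 3 K) b.toVec a.toVec := fun a b =>
    QuadraticMap.polar_comm _ _ _
  revert j
  revert i
  refine h22_I7_cases ?_ ?_ ?_ ?_ ?_ ?_ ?_ <;> refine h22_I7_cases ?_ ?_ ?_ ?_ ?_ ?_ ?_
  · show QuadraticMap.polar (Cfsg.quadFormOdd 3 K) m.c0.toVec m.c0.toVec = QuadraticMap.polar (Cfsg.quadFormOdd 3 K) one7.c0.toVec one7.c0.toVec
    rw [hq, hq, q0]; rfl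
  · show QuadraticMap.polar (Cfsg.quadFormOdd 3 K) m.c0.toVec m.c1.toVec = QuadraticMap.polar (Cfsg.quadFormOdd 3 K) one7.c0.toVec one7.c1.toVec
    rw [← bV_spec, ← bV_spec, b01]; rfl
  · show QuadraticMap.polar (Cfsg.quadFormOdd 3 K) m.c0.toVec m.c2.toVec = QuadraticMap.polar (Cfsg.quadFormOdd 3 K) one7.c0.toVec one7.c2.toVec
    rw [← bV_spec, ← bV_spec, b02]; rfl
  · show QuadraticMap.polar (Cfsg.quadFormOdd 3 K) m.c0.toVec m.c3.toVec = QuadraticMap.polar (Cfsg.quadFormOdd 3 K) one7.c0.toVec one7.c3.toVec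
    rw [← bV_spec, ← bV_spec, b03]; rfl
  · show QuadraticMap.polar (Cfsg.quadFormOdd 3 K) m.c0.toVec m.c4.toVec = QuadraticMap.polar (Cfsg.quadFormOdd 3 K) one7.c0.toVec one7.c4.toVec
    rw [← bV_spec, ← bV_spec, b04]; rfl
  · show QuadraticMap.polar (Cfsg.quadFormOdd 3 K) m.c0.toVec m.c5.toVec = QuadraticMap.polar (Cfsg.quadFormOdd 3 K) one7.c0.toVec one7.c5.toVec
    rw [← bV_spec, ← bV_spec, b05]; rfl
  · show QuadraticMap.polar (Cfsg.quadFormOdd 3 K) m.c0.toVec m.c6.toVec = QuadraticMap.polar (Cfsg.quadFormOdd 3 K) one7.c0.toVec one7.c6.toVec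
    rw [← bV_spec, ← bV_spec, b06]; rfl
  · show QuadraticMap.polar (Cfsg.quadFormOdd 3 K) m.c1.toVec m.c0.toVec = QuadraticMap.polar (Cfsg.quadFormOdd 3 K) one7.c1.toVec one7.c0.toVec
    rw [hc m.c1 m.c0, hc one7.c1 one7.c0, ← bV_spec, ← bV_spec, b01]; rfl
  · show QuadraticMap.polar (Cfsg.quadFormOdd 3 K) m.c1.toVec m.c1.toVec = QuadraticMap.polar (Cfsg.quadFormOdd 3 K) one7.c1.toVec one7.c1.toVec
    rw [hq, hq, q1]; rfl
  · show QuadraticMap.polar (Cfsg.quadFormOdd 3 K) m.c1.toVec m.c2.toVec = QuadraticMap.polar (Cfsg.quadFormOdd 3 K) one7.c1.toVec one7.c2.toVec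
    rw [← bV_spec, ← bV_spec, b12]; rfl
  · show QuadraticMap.polar (Cfsg.quadFormOdd 3 K) m.c1.toVec m.c3.toVec = QuadraticMap.polar (Cfsg.quadFormOdd 3 K) one7.c1.toVec one7.c3.toVec
    rw [← bV_spec, ← bV_spec, b13]; rfl
  · show QuadraticMap.polar (Cfsg.quadFormOdd 3 K) m.c1.toVec m.c4.toVec = QuadraticMap.polar (Cfsg.quadFormOdd 3 K) one7.c1.toVec one7.c4.toVec
    rw [← bV_spec, ← bV_spec, b14]; rfl
  · show QuadraticMap.polar (Cfsg.quadFormOdd 3 K) m.c1.toVec m.c5.toVec = QuadraticMap.polar (Cfsg.quadFormOdd 3 K) one7.c1.toVec one7.c5.toVec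
    rw [← bV_spec, ← bV_spec, b15]; rfl
  · show QuadraticMap.polar (Cfsg.quadFormOdd 3 K) m.c1.toVec m.c6.toVec = QuadraticMap.polar (Cfsg.quadFormOdd 3 K) one7.c1.toVec one7.c6.toVec
    rw [← bV_spec, ← bV_spec, b16]; rfl
  · show QuadraticMap.polar (Cfsg.quadFormOdd 3 K) m.c2.toVec m.c0.toVec = QuadraticMap.polar (Cfsg.quadFormOdd 3 K) one7.c2.toVec one7.c0.toVec
    rw [hc m.c2 m.c0, hc one7.c2 one7.c0, ← bV_spec, ← bV_spec, b02]; rfl
  · show QuadraticMap.polar (Cfsg.quadFormOdd 3 K) m.c2.toVec m.c1.toVec = QuadraticMap.polar (Cfsg.quadFormOdd 3 K) one7.c2.toVec one7.c1.toVec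
    rw [hc m.c2 m.c1, hc one7.c2 one7.c1, ← bV_spec, ← bV_spec, b12]; rfl
  · show QuadraticMap.polar (Cfsg.quadFormOdd 3 K) m.c2.toVec m.c2.toVec = QuadraticMap.polar (Cfsg.quadFormOdd 3 K) one7.c2.toVec one7.c2.toVec
    rw [hq, hq, q2]; rfl
  · show QuadraticMap.polar (Cfsg.quadFormOdd 3 K) m.c2.toVec m.c3.toVec = QuadraticMap.polar (Cfsg.quadFormOdd 3 K) one7.c2.toVec one7.c3.toVec
    rw [← bV_spec, ← bV_spec, b23]; rfl
  · show QuadraticMap.polar (Cfsg.quadFormOdd 3 K) m.c2.toVec m.c4.toVec = QuadraticMap.polar (Cfsg.quadFormOdd 3 K) one7.c2.toVec one7.c4.toVec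
    rw [← bV_spec, ← bV_spec, b24]; rfl
  · show QuadraticMap.polar (Cfsg.quadFormOdd 3 K) m.c2.toVec m.c5.toVec = QuadraticMap.polar (Cfsg.quadFormOdd 3 K) one7.c2.toVec one7.c5.toVec
    rw [← bV_spec, ← bV_spec, b25]; rfl
  · show QuadraticMap.polar (Cfsg.quadFormOdd 3 K) m.c2.toVec m.c6.toVec = QuadraticMap.polar (Cfsg.quadFormOdd 3 K) one7.c2.toVec one7.c6.toVec
    rw [← bV_spec, ← bV_spec, b26]; rfl
  · show QuadraticMap.polar (Cfsg.quadFormOdd 3 K) m.c3.toVec m.c0.toVec = QuadraticMap.polar (Cfsg.quadFormOdd 3 K) one7.c3.toVec one7.c0.toVec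
    rw [hc m.c3 m.c0, hc one7.c3 one7.c0, ← bV_spec, ← bV_spec, b03]; rfl
  · show QuadraticMap.polar (Cfsg.quadFormOdd 3 K) m.c3.toVec m.c1.toVec = QuadraticMap.polar (Cfsg.quadFormOdd 3 K) one7.c3.toVec one7.c1.toVec
    rw [hc m.c3 m.c1, hc one7.c3 one7.c1, ← bV_spec, ← bV_spec, b13]; rfl
  · show QuadraticMap.polar (Cfsg.quadFormOdd 3 K) m.c3.toVec m.c2.toVec = QuadraticMap.polar (Cfsg.quadFormOdd 3 K) one7.c3.toVec one7.c2.toVec
    rw [hc m.c3 m.c2, hc one7.c3 one7.c2, ← bV_spec, ← bV_spec, b23]; rfl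
  · show QuadraticMap.polar (Cfsg.quadFormOdd 3 K) m.c3.toVec m.c3.toVec = QuadraticMap.polar (Cfsg.quadFormOdd 3 K) one7.c3.toVec one7.c3.toVec
    rw [hq, hq, q3]; rfl
  · show QuadraticMap.polar (Cfsg.quadFormOdd 3 K) m.c3.toVec m.c4.toVec = QuadraticMap.polar (Cfsg.quadFormOdd 3 K) one7.c3.toVec one7.c4.toVec
    rw [← bV_spec, ← bV_spec, b34]; rfl
  · show QuadraticMap.polar (Cfsg.quadFormOdd 3 K) m.c3.toVec m.c5.toVec = QuadraticMap.polar (Cfsg.quadFormOdd 3 K) one7.c3.toVec one7.c5.toVec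
    rw [← bV_spec, ← bV_spec, b35]; rfl
  · show QuadraticMap.polar (Cfsg.quadFormOdd 3 K) m.c3.toVec m.c6.toVec = QuadraticMap.polar (Cfsg.quadFormOdd 3 K) one7.c3.toVec one7.c6.toVec
    rw [← bV_spec, ← bV_spec, b36]; rfl
  · show QuadraticMap.polar (Cfsg.quadFormOdd 3 K) m.c4.toVec m.c0.toVec = QuadraticMap.polar (Cfsg.quadFormOdd 3 K) one7.c4.toVec one7.c0.toVec
    rw [hc m.c4 m.c0, hc one7.c4 one7.c0, ← bV_spec, ← bV_spec, b04]; rfl
  · show QuadraticMap.polar (Cfsg.quadFormOdd 3 K) m.c4.toVec m.c1.toVec = QuadraticMap.polar (Cfsg.quadFormOdd 3 K) one7.c4.toVec one7.c1.toVec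
    rw [hc m.c4 m.c1, hc one7.c4 one7.c1, ← bV_spec, ← bV_spec, b14]; rfl
  · show QuadraticMap.polar (Cfsg.quadFormOdd 3 K) m.c4.toVec m.c2.toVec = QuadraticMap.polar (Cfsg.quadFormOdd 3 K) one7.c4.toVec one7.c2.toVec
    rw [hc m.c4 m.c2, hc one7.c4 one7.c2, ← bV_spec, ← bV_spec, b24]; rfl
  · show QuadraticMap.polar (Cfsg.quadFormOdd 3 K) m.c4.toVec m.c3.toVec = QuadraticMap.polar (Cfsg.quadFormOdd 3 K) one7.c4.toVec one7.c3.toVec
    rw [hc m.c4 m.c3, hc one7.c4 one7.c3, ← bV_spec, ← bV_spec, b34]; rfl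
  · show QuadraticMap.polar (Cfsg.quadFormOdd 3 K) m.c4.toVec m.c4.toVec = QuadraticMap.polar (Cfsg.quadFormOdd 3 K) one7.c4.toVec one7.c4.toVec
    rw [hq, hq, q4]; rfl
  · show QuadraticMap.polar (Cfsg.quadFormOdd 3 K) m.c4.toVec m.c5.toVec = QuadraticMap.polar (Cfsg.quadFormOdd 3 K) one7.c4.toVec one7.c5.toVec
    rw [← bV_spec, ← bV_spec, b45]; rfl
  · show QuadraticMap.polar (Cfsg.quadFormOdd 3 K) m.c4.toVec m.c6.toVec = QuadraticMap.polar (Cfsg.quadFormOdd 3 K) one7.c4.toVec one7.c6.toVec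
    rw [← bV_spec, ← bV_spec, b46]; rfl
  · show QuadraticMap.polar (Cfsg.quadFormOdd 3 K) m.c5.toVec m.c0.toVec = QuadraticMap.polar (Cfsg.quadFormOdd 3 K) one7.c5.toVec one7.c0.toVec
    rw [hc m.c5 m.c0, hc one7.c5 one7.c0, ← bV_spec, ← bV_spec, b05]; rfl
  · show QuadraticMap.polar (Cfsg.quadFormOdd 3 K) m.c5.toVec m.c1.toVec = QuadraticMap.polar (Cfsg.quadFormOdd 3 K) one7.c5.toVec one7.c1.toVec
    rw [hc m.c5 m.c1, hc one7.c5 one7.c1, ← bV_spec, ← bV_spec, b15]; rfl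
  · show QuadraticMap.polar (Cfsg.quadFormOdd 3 K) m.c5.toVec m.c2.toVec = QuadraticMap.polar (Cfsg.quadFormOdd 3 K) one7.c5.toVec one7.c2.toVec
    rw [hc m.c5 m.c2, hc one7.c5 one7.c2, ← bV_spec, ← bV_spec, b25]; rfl
  · show QuadraticMap.polar (Cfsg.quadFormOdd 3 K) m.c5.toVec m.c3.toVec = QuadraticMap.polar (Cfsg.quadFormOdd 3 K) one7.c5.toVec one7.c3.toVec
    rw [hc m.c5 m.c3, hc one7.c5 one7.c3, ← bV_spec, ← bV_spec, b35]; rfl
  · show QuadraticMap.polar (Cfsg.quadFormOdd 3 K) m.c5.toVec m.c4.toVec = QuadraticMap.polar (Cfsg.quadFormOdd 3 K) one7.c5.toVec one7.c4.toVec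
    rw [hc m.c5 m.c4, hc one7.c5 one7.c4, ← bV_spec, ← bV_spec, b45]; rfl
  · show QuadraticMap.polar (Cfsg.quadFormOdd 3 K) m.c5.toVec m.c5.toVec = QuadraticMap.polar (Cfsg.quadFormOdd 3 K) one7.c5.toVec one7.c5.toVec
    rw [hq, hq, q5]; rfl
  · show QuadraticMap.polar (Cfsg.quadFormOdd 3 K) m.c5.toVec m.c6.toVec = QuadraticMap.polar (Cfsg.quadFormOdd 3 K) one7.c5.toVec one7.c6.toVec
    rw [← bV_spec, ← bV_spec, b56]; rfl
  · show QuadraticMap.polar (Cfsg.quadFormOdd 3 K) m.c6.toVec m.c0.toVec = QuadraticMap.polar (Cfsg.quadFormOdd 3 K) one7.c6.toVec one7.c0.toVec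
    rw [hc m.c6 m.c0, hc one7.c6 one7.c0, ← bV_spec, ← bV_spec, b06]; rfl
  · show QuadraticMap.polar (Cfsg.quadFormOdd 3 K) m.c6.toVec m.c1.toVec = QuadraticMap.polar (Cfsg.quadFormOdd 3 K) one7.c6.toVec one7.c1.toVec
    rw [hc m.c6 m.c1, hc one7.c6 one7.c1, ← bV_spec, ← bV_spec, b16]; rfl
  · show QuadraticMap.polar (Cfsg.quadFormOdd 3 K) m.c6.toVec m.c2.toVec = QuadraticMap.polar (Cfsg.quadFormOdd 3 K) one7.c6.toVec one7.c2.toVec
    rw [hc m.c6 m.c2, hc one7.c6 one7.c2, ← bV_spec, ← bV_spec, b26]; rfl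
  · show QuadraticMap.polar (Cfsg.quadFormOdd 3 K) m.c6.toVec m.c3.toVec = QuadraticMap.polar (Cfsg.quadFormOdd 3 K) one7.c6.toVec one7.c3.toVec
    rw [hc m.c6 m.c3, hc one7.c6 one7.c3, ← bV_spec, ← bV_spec, b36]; rfl
  · show QuadraticMap.polar (Cfsg.quadFormOdd 3 K) m.c6.toVec m.c4.toVec = QuadraticMap.polar (Cfsg.quadFormOdd 3 K) one7.c6.toVec one7.c4.toVec
    rw [hc m.c6 m.c4, hc one7.c6 one7.c4, ← bV_spec, ← bV_spec, b46]; rfl
  · show QuadraticMap.polar (Cfsg.quadFormOdd 3 K) m.c6.toVec m.c5.toVec = QuadraticMap.polar (Cfsg.quadFormOdd 3 K) one7.c6.toVec one7.c5.toVec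
    rw [hc m.c6 m.c5, hc one7.c6 one7.c5, ← bV_spec, ← bV_spec, b56]; rfl
  · show QuadraticMap.polar (Cfsg.quadFormOdd 3 K) m.c6.toVec m.c6.toVec = QuadraticMap.polar (Cfsg.quadFormOdd 3 K) one7.c6.toVec one7.c6.toVec
    rw [hq, hq, q6]; rfl

theorem h28ci_two_ne : (2 : K) ≠ 0 := by decide

/-- the polar form is preserved -/
theorem h28ci_polar (m : M7) (h : isoChk m = true) (v w : I7 → K) :
    QuadraticMap.polar (Cfsg.quadFormOdd 3 K) (m.toMat *ᵥ v) (m.toMat *ᵥ w) =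
      QuadraticMap.polar (Cfsg.quadFormOdd 3 K) v w := by
  have key : (QuadraticMap.polarBilin Q7).compl₁₂ (Matrix.toLin' m.toMat) (Matrix.toLin' m.toMat) =
      QuadraticMap.polarBilin Q7 := by
    apply LinearMap.ext_basis (Pi.basisFun K I7) (Pi.basisFun K I7)
    intro i j
    rw [LinearMap.compl₁₂_apply, Pi.basisFun_apply, Pi.basisFun_apply, Matrix.toLin'_apply,
      Matrix.toLin'_apply, QuadraticMap.polarBilin_apply_apply, QuadraticMap.polarBilin_apply_apply,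
      h28ci_col, h28ci_col, Q7_coe, h28ci_polar_col m h, h28ci_one_col, h28ci_one_col]
  have := LinearMap.congr_fun₂ key v w
  rw [LinearMap.compl₁₂_apply, Matrix.toLin'_apply, Matrix.toLin'_apply,
    QuadraticMap.polarBilin_apply_apply, QuadraticMap.polarBilin_apply_apply, Q7_coe] at this
  exact this

theorem h28ci_quad (m : M7) (h : isoChk m = true) (v : I7 → K) :
    Cfsg.quadFormOdd 3 K (m.toMat *ᵥ v) = Cfsg.quadFormOdd 3 K v := by
  have h1 := h28ci_polar m h v v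
  rw [← Q7_coe, QuadraticMap.polar_self, QuadraticMap.polar_self] at h1
  simp only [nsmul_eq_mul, Nat.cast_ofNat] at h1
  exact mul_left_cancel₀ h28ci_two_ne h1

theorem h28ci_sep (x : I7 → K)
    (hx : ∀ y, QuadraticMap.polar (Cfsg.quadFormOdd 3 K) x y = 0) : x = 0 := by
  funext k
  rcases k with k | i | i
  · have := hx (Pi.single (Sum.inl ()) 1)
    rw [polar_odd] at this
    have h3 : 2 * x (Sum.inl ()) = 0 := by simpa [Pi.single_apply] using this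
    rcases mul_eq_zero.1 h3 with h | h
    · exact absurd h h28ci_two_ne
    · cases k
      exact h
  · have := hx (Pi.single (Sum.inr (Sum.inr i)) 1)
    rw [polar_odd] at this
    simpa [Pi.single_apply] using this
  · have := hx (Pi.single (Sum.inr (Sum.inl i)) 1)
    rw [polar_odd] at this
    simpa [Pi.single_apply] using this

theorem h28ci_unit (m : M7) (h : isoChk m = true) : IsUnit m.toMat := by
  rw [← Matrix.mulVec_injective_iff_isUnit]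
  intro v w hvw
  have h0 : v - w = 0 := by
    apply h28ci_sep
    intro y
    rw [← h28ci_polar m h, Matrix.mulVec_sub, hvw, sub_self]
    simp [QuadraticMap.polar, Cfsg.quadFormOdd]
  exact sub_eq_zero.mp h0

theorem h28_exists_rep (m : M7) (h : isoChk m = true) : ∃ g : GO, Rep g m := by
  obtain ⟨u, hu⟩ := h28ci_unit m h
  refine ⟨⟨u, ?_⟩, ?_⟩
  · rw [mem_iso_iff]
    intro x
    rw [hu]
    exact h28ci_quad m h x
  · exact hu

end Cfsg.Agent.Lib.Helper28.O73C
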