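import Cfsg.Agent.Lib.Helper28.O73C.Defs
import Cfsg.Agent.Lib.Helper13.O73CCR
import Cfsg.Agent.Lib.Helper28.O73C.Iso
import Cfsg.Agent.Lib.Helper29.O73CPM
import Cfsg.Agent.Lib.Helper16.SpinG2

/-!
Project O73C (S5514), piece SA: the normaliser of the subgroup generated by `rep 3` lies in the
parabolic `P3`, with `det aX = eps` (helper28).
-/

set_option autoImplicit false

namespace Cfsg.Agent.Lib.Helper28.O73C

open Cfsg.Agent.Lib.Helper12.O73 Cfsg.Agent.Lib.Helper16 Matrix

/-- the matrix of `rep 3`, explicitly -/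
def h28_ym : M7 :=
  ⟨⟨1,0,0,1,0,0,0⟩,⟨0,1,0,0,0,0,0⟩,⟨0,0,1,0,0,0,0⟩,⟨0,0,0,1,0,0,0⟩,⟨0,0,2,0,1,0,0⟩,⟨0,1,0,0,0,1,0⟩,⟨1,0,0,2,0,0,1⟩⟩

theorem h28_rep3_eq : rep 3 = h28_ym := by decide +kernel

/-- index names -/
abbrev ie : I7 := Sum.inl ()
abbrev ix (k : Fin 3) : I7 := Sum.inr (Sum.inl k)
abbrev iy (k : Fin 3) : I7 := Sum.inr (Sum.inr k)

theorem h28_comm_entries (A : Matrix I7 I7 K) (h : A * h28_ym.toMat = h28_ym.toMat * A) (i j : I7) :
    (A * h28_ym.toMat) i j = (h28_ym.toMat * A) i j := by rw [h]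

theorem h28_cent_mat (A : Matrix I7 I7 K) (h : A * h28_ym.toMat = h28_ym.toMat * A) :
    (∀ j : Fin 3, A ie (ix j) = 0 ∧ ∀ i : Fin 3, A (iy i) (ix j) = 0) ∧
    A (ix 0) (ix 2) = 0 ∧ A (ix 1) (ix 2) = 0 ∧ A (ix 2) (ix 2) = A ie ie ∧
    A (ix 0) (ix 0) = A (iy 1) (iy 1) ∧ A (ix 1) (ix 0) = 2 * A (iy 0) (iy 1) ∧
    2 * A (ix 0) (ix 1) = A (iy 1) (iy 0) ∧ 2 * A (ix 1) (ix 1) = 2 * A (iy 0) (iy 0) ∧
    A (iy 2) (iy 0) = 0 := by
  have a30 := h28_comm_entries A h (ie) (ix 0)
  simp [Matrix.mul_apply, Fintype.sum_sum_type, Fin.sum_univ_three, h28_ym, M7.toMat, M7.col, V7.toVec, Helper12.O73.vec] at a30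
  have a20 := h28_comm_entries A h (ix 0) (ix 0)
  simp [Matrix.mul_apply, Fintype.sum_sum_type, Fin.sum_univ_three, h28_ym, M7.toMat, M7.col, V7.toVec, Helper12.O73.vec] at a20
  have a10' := h28_comm_entries A h (ix 1) (ix 0)
  simp [Matrix.mul_apply, Fintype.sum_sum_type, Fin.sum_univ_three, h28_ym, M7.toMat, M7.col, V7.toVec, Helper12.O73.vec] at a10'
  have a10 := a10'.resolve_left (by decide)
  have a00' := h28_comm_entries A h (ix 2) (ix 0)
  simp [Matrix.mul_apply, Fintype.sum_sum_type, Fin.sum_univ_three, h28_ym, M7.toMat, M7.col, V7.toVec, Helper12.O73.vec] at a00'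
  have a00 : A ie (ix 0) = 0 := by linear_combination (-1 : K) * a00' - 2 * a30
  have a31 := h28_comm_entries A h (ie) (ix 1)
  simp [Matrix.mul_apply, Fintype.sum_sum_type, Fin.sum_univ_three, h28_ym, M7.toMat, M7.col, V7.toVec, Helper12.O73.vec] at a31
  have a21 := h28_comm_entries A h (ix 0) (ix 1)
  simp [Matrix.mul_apply, Fintype.sum_sum_type, Fin.sum_univ_three, h28_ym, M7.toMat, M7.col, V7.toVec, Helper12.O73.vec] at a21
  have a11' := h28_comm_entries A h (ix 1) (ix 1)
  simp [Matrix.mul_apply, Fintype.sum_sum_type, Fin.sum_univ_three, h28_ym, M7.toMat, M7.col, V7.toVec, Helper12.O73.vec] at a11'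
  have a11 := a11'.resolve_left (by decide)
  have a01' := h28_comm_entries A h (ix 2) (ix 1)
  simp [Matrix.mul_apply, Fintype.sum_sum_type, Fin.sum_univ_three, h28_ym, M7.toMat, M7.col, V7.toVec, Helper12.O73.vec] at a01'
  have a01 : A ie (ix 1) = 0 := by linear_combination (-1 : K) * a01' - 2 * a31
  have a32 := h28_comm_entries A h (ie) (ix 2)
  simp [Matrix.mul_apply, Fintype.sum_sum_type, Fin.sum_univ_three, h28_ym, M7.toMat, M7.col, V7.toVec, Helper12.O73.vec] at a32
  have a22 := h28_comm_entries A h (ix 0) (ix 2)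
  simp [Matrix.mul_apply, Fintype.sum_sum_type, Fin.sum_univ_three, h28_ym, M7.toMat, M7.col, V7.toVec, Helper12.O73.vec] at a22
  have a12' := h28_comm_entries A h (ix 1) (ix 2)
  simp [Matrix.mul_apply, Fintype.sum_sum_type, Fin.sum_univ_three, h28_ym, M7.toMat, M7.col, V7.toVec, Helper12.O73.vec] at a12'
  have a12 := a12'.resolve_left (by decide)
  have a02' := h28_comm_entries A h (ix 2) (ix 2)
  simp [Matrix.mul_apply, Fintype.sum_sum_type, Fin.sum_univ_three, h28_ym, M7.toMat, M7.col, V7.toVec, Helper12.O73.vec] at a02'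
  have a02 : A ie (ix 2) = 0 := by linear_combination (-1 : K) * a02' - 2 * a32
  have b1' := h28_comm_entries A h (iy 0) (iy 2)
  simp [Matrix.mul_apply, Fintype.sum_sum_type, Fin.sum_univ_three, h28_ym, M7.toMat, M7.col, V7.toVec, Helper12.O73.vec] at b1'
  have b1 : A (iy 0) ie = 0 := by linear_combination b1' - 2 * a12
  have b2' := h28_comm_entries A h (iy 1) (iy 2)
  simp [Matrix.mul_apply, Fintype.sum_sum_type, Fin.sum_univ_three, h28_ym, M7.toMat, M7.col, V7.toVec, Helper12.O73.vec] at b2'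
  have b2 : A (iy 1) ie = 0 := by linear_combination b2' - 2 * a22
  have b3' := h28_comm_entries A h (iy 2) (iy 2)
  simp [Matrix.mul_apply, Fintype.sum_sum_type, Fin.sum_univ_three, h28_ym, M7.toMat, M7.col, V7.toVec, Helper12.O73.vec] at b3'
  have b3 : A (iy 2) ie = 0 := by linear_combination b3' - 2 * a32
  have c1' := h28_comm_entries A h (ix 0) (ie)
  simp [Matrix.mul_apply, Fintype.sum_sum_type, Fin.sum_univ_three, h28_ym, M7.toMat, M7.col, V7.toVec, Helper12.O73.vec] at c1'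
  have c1 : A (ix 0) (ix 2) = 0 := by linear_combination c1' + b2
  have c2' := h28_comm_entries A h (ix 1) (ie)
  simp [Matrix.mul_apply, Fintype.sum_sum_type, Fin.sum_univ_three, h28_ym, M7.toMat, M7.col, V7.toVec, Helper12.O73.vec] at c2'
  have c2 : A (ix 1) (ix 2) = 0 := by linear_combination c2' + 2 * b1
  have c3' := h28_comm_entries A h (ix 2) (ie)
  simp [Matrix.mul_apply, Fintype.sum_sum_type, Fin.sum_univ_three, h28_ym, M7.toMat, M7.col, V7.toVec, Helper12.O73.vec] at c3'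
  have c3 : A (ix 2) (ix 2) = A ie ie := by linear_combination c3' + 2 * b3
  have d1' := h28_comm_entries A h (ix 0) (iy 1)
  simp [Matrix.mul_apply, Fintype.sum_sum_type, Fin.sum_univ_three, h28_ym, M7.toMat, M7.col, V7.toVec, Helper12.O73.vec] at d1'
  have d1 : A (ix 0) (ix 0) = A (iy 1) (iy 1) := by linear_combination d1'
  have d2' := h28_comm_entries A h (ix 1) (iy 1)
  simp [Matrix.mul_apply, Fintype.sum_sum_type, Fin.sum_univ_three, h28_ym, M7.toMat, M7.col, V7.toVec, Helper12.O73.vec] at d2'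
  have d2 : A (ix 1) (ix 0) = 2 * A (iy 0) (iy 1) := by linear_combination d2'
  have d3' := h28_comm_entries A h (ix 0) (iy 0)
  simp [Matrix.mul_apply, Fintype.sum_sum_type, Fin.sum_univ_three, h28_ym, M7.toMat, M7.col, V7.toVec, Helper12.O73.vec] at d3'
  have d3 : 2 * A (ix 0) (ix 1) = A (iy 1) (iy 0) := by linear_combination d3'
  have d4' := h28_comm_entries A h (ix 1) (iy 0)
  simp [Matrix.mul_apply, Fintype.sum_sum_type, Fin.sum_univ_three, h28_ym, M7.toMat, M7.col, V7.toVec, Helper12.O73.vec] at d4'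
  have d4 : 2 * A (ix 1) (ix 1) = 2 * A (iy 0) (iy 0) := by linear_combination d4'
  have f1' := h28_comm_entries A h (ie) (iy 0)
  simp [Matrix.mul_apply, Fintype.sum_sum_type, Fin.sum_univ_three, h28_ym, M7.toMat, M7.col, V7.toVec, Helper12.O73.vec] at f1'
  have f1 : A (iy 2) (iy 0) = 0 := by linear_combination (-1 : K) * f1' + 2 * a01

  refine ⟨?_, c1, c2, c3, d1, d2, d3, d4, f1⟩
  intro j
  fin_cases j
  · refine ⟨a00, fun i => ?_⟩
    fin_cases i
    · exact a10
    · exact a20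
    · exact a30
  · refine ⟨a01, fun i => ?_⟩
    fin_cases i
    · exact a11
    · exact a21
    · exact a31
  · refine ⟨a02, fun i => ?_⟩
    fin_cases i
    · exact a12
    · exact a22
    · exact a32

theorem h28_three : (3 : K) = 0 := by decide

/-- the centralising case -/
theorem h28_cent (y n : GO) (hy : Rep y (rep 3)) (hc : n * y = y * n) :
    InP3 n ∧ (aX n).det = eps n := by
  have hA : n.mat * h28_ym.toMat = h28_ym.toMat * n.mat := by
    have hy' : y.mat = h28_ym.toMat := by rw [← h28_rep3_eq]; exact hy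
    rw [← hy']
    have := congrArg (fun g : GO => g.mat) hc
    exact this
  obtain ⟨hP, c1, c2, c3, d1, d2, d3, d4, f1⟩ := h28_cent_mat n.mat hA
  refine ⟨hP, ?_⟩
  have hpol : QuadraticMap.polar (Cfsg.quadFormOdd 3 K) (n.mat *ᵥ Pi.single (ix 0) 1)
      (n.mat *ᵥ Pi.single (iy 0) 1) =
      QuadraticMap.polar (Cfsg.quadFormOdd 3 K) (Pi.single (ix 0) 1) (Pi.single (iy 0) 1) :=
    polar_iso' Q7 n (Pi.single (ix 0) 1) (Pi.single (iy 0) 1)
  rw [Matrix.mulVec_single_one, Matrix.mulVec_single_one, polar_odd, polar_odd] at hpol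
  simp only [Fin.sum_univ_three, Matrix.col_apply] at hpol
  have e0 := (hP 0).1
  have e1 := (hP 0).2 0
  have e2 := (hP 0).2 1
  have e3 := (hP 0).2 2
  have d4' : n.mat (Sum.inr (Sum.inl 1)) (Sum.inr (Sum.inl 1)) = n.mat (Sum.inr (Sum.inr 0)) (Sum.inr (Sum.inr 0)) := by
    linear_combination 2 * d4 - (n.mat (Sum.inr (Sum.inl 1)) (Sum.inr (Sum.inl 1)) - n.mat (Sum.inr (Sum.inr 0)) (Sum.inr (Sum.inr 0))) * h28_three
  simp [ix, iy, ie] at hpol e0 e1 e2 e3 c1 c2 c3 d1 d2 d3 f1
  rw [e0, e1, e2, e3, f1] at hpol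
  rw [Matrix.det_fin_three]
  simp only [aX, eps, Matrix.of_apply]
  rw [c1, c2, c3]
  have d3' : n.mat (Sum.inr (Sum.inl 0)) (Sum.inr (Sum.inl 1)) = 2 * n.mat (Sum.inr (Sum.inr 1)) (Sum.inr (Sum.inr 0)) := by
    linear_combination 2 * d3 - n.mat (Sum.inr (Sum.inl 0)) (Sum.inr (Sum.inl 1)) * h28_three
  rw [d4', d3', d1, d2]
  rw [d1, d2] at hpol
  linear_combination (n.mat (Sum.inl ()) (Sum.inl ())) * hpol -
    2 * (n.mat (Sum.inl ()) (Sum.inl ())) * n.mat (Sum.inr (Sum.inr 1)) (Sum.inr (Sum.inr 0)) *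
      n.mat (Sum.inr (Sum.inr 0)) (Sum.inr (Sum.inr 1)) * h28_three

theorem h28_taum_iso : isoChk taum = true := by decide +kernel
theorem h28_tau_sq : mm taum taum = one7 := by decide +kernel
theorem h28_y_cube : mm h28_ym (mm h28_ym h28_ym) = one7 := by decide +kernel
theorem h28_tau_y : mm taum h28_ym = mm (mm h28_ym h28_ym) taum := by decide +kernel

theorem h28_tau_facts (t : GO) (ht : Rep t taum) :
    InP3 t ∧ (aX t).det = -1 ∧ eps t = -1 := by
  have hm : t.mat = taum.toMat := ht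
  refine ⟨?_, ?_, ?_⟩
  · intro j
    rw [hm]
    refine ⟨?_, fun i => ?_⟩
    · fin_cases j <;> simp [taum, M7.toMat, M7.col, V7.toVec, Helper12.O73.vec]
    · fin_cases j <;> fin_cases i <;> simp [taum, M7.toMat, M7.col, V7.toVec, Helper12.O73.vec]
  · rw [Matrix.det_fin_three]
    simp only [aX, Matrix.of_apply]
    rw [hm]
    simp [taum, M7.toMat, M7.col, V7.toVec, Helper12.O73.vec]
  · simp only [eps]
    rw [hm]
    simp [taum, M7.toMat, M7.col, V7.toVec, Helper12.O73.vec]
    decide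

theorem split_A (y n : GO) (hy : Rep y (rep 3)) (hn : n * y * n⁻¹ = y ∨ n * y * n⁻¹ = y ^ 2) :
    InP3 n ∧ (aX n).det = eps n := by
  rcases hn with hn | hn
  · apply h28_cent y n hy
    have : n * y = (n * y * n⁻¹) * n := by group
    rw [this, hn]
  · obtain ⟨t, ht⟩ := h28_exists_rep taum h28_taum_iso
    have hy' : Rep y h28_ym := by rw [← h28_rep3_eq]; exact hy
    have ht2 : t * t = 1 := by
      have := rep_mul ht ht
      rw [h28_tau_sq] at this
      exact rep_ext this rep_one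
    have hy3 : y * (y * y) = 1 := by
      have := rep_mul hy' (rep_mul hy' hy')
      rw [h28_y_cube] at this
      exact rep_ext this rep_one
    have hty : t * y = y * y * t := by
      have h1 := rep_mul ht hy'
      have h2 := rep_mul (rep_mul hy' hy') ht
      rw [h28_tau_y] at h1
      exact rep_ext h1 h2
    have hny : n * y = y * y * n := by
      have : n * y = (n * y * n⁻¹) * n := by group
      rw [this, hn, pow_two]
    have hc : (t * n) * y = y * (t * n) := by
      calc (t * n) * y = t * (n * y) := by group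
        _ = t * (y * y * n) := by rw [hny]
        _ = (t * y) * y * n := by group
        _ = (y * y * t) * y * n := by rw [hty]
        _ = y * y * (t * y) * n := by group
        _ = y * y * (y * y * t) * n := by rw [hty]
        _ = y * (y * (y * y)) * (t * n) := by group
        _ = y * (t * n) := by rw [hy3, mul_one]
    obtain ⟨hP, hdet⟩ := h28_cent y (t * n) hy hc
    obtain ⟨htP, htdet, hteps⟩ := h28_tau_facts t ht
    have hnn : n = t * (t * n) := by
      rw [← mul_assoc, ht2, one_mul]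
    obtain ⟨h1, h2, h3⟩ := p3_mul t (t * n) htP hP
    rw [← hnn] at h1 h2 h3
    refine ⟨h1, ?_⟩
    rw [h2, h3, Matrix.det_mul, htdet, hteps, hdet]

end Cfsg.Agent.Lib.Helper28.O73C
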