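import Mathlib

/-!
Project O73C (S5514): the computational layer.  Vectors of `F_3^7` as seven natural numbers
(coordinates `e0, x1, x2, x3, y1, y2, y3`), matrices as seven columns, all arithmetic on `ℕ` with
explicit `% 3` (fast in the kernel).  No proofs here, only definitions (helper28).
-/

set_option autoImplicit false

namespace Cfsg.Agent.Lib.Helper28.O73C

/-- encoded vector: coordinates `e0, x1, x2, x3, y1, y2, y3` -/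
structure V7 where
  (a0 a1 a2 a3 a4 a5 a6 : ℕ)
deriving DecidableEq

/-- encoded matrix: the seven columns (images of `e0, x1, x2, x3, y1, y2, y3`) -/
structure M7 where
  (c0 c1 c2 c3 c4 c5 c6 : V7)
deriving DecidableEq

/-- matrix times vector -/
def mv (m : M7) (a : V7) : V7 :=
  ⟨(a.a0 * m.c0.a0 + a.a1 * m.c1.a0 + a.a2 * m.c2.a0 + a.a3 * m.c3.a0 + a.a4 * m.c4.a0 + a.a5 * m.c5.a0 + a.a6 * m.c6.a0) % 3,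
   (a.a0 * m.c0.a1 + a.a1 * m.c1.a1 + a.a2 * m.c2.a1 + a.a3 * m.c3.a1 + a.a4 * m.c4.a1 + a.a5 * m.c5.a1 + a.a6 * m.c6.a1) % 3,
   (a.a0 * m.c0.a2 + a.a1 * m.c1.a2 + a.a2 * m.c2.a2 + a.a3 * m.c3.a2 + a.a4 * m.c4.a2 + a.a5 * m.c5.a2 + a.a6 * m.c6.a2) % 3,
   (a.a0 * m.c0.a3 + a.a1 * m.c1.a3 + a.a2 * m.c2.a3 + a.a3 * m.c3.a3 + a.a4 * m.c4.a3 + a.a5 * m.c5.a3 + a.a6 * m.c6.a3) % 3,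
   (a.a0 * m.c0.a4 + a.a1 * m.c1.a4 + a.a2 * m.c2.a4 + a.a3 * m.c3.a4 + a.a4 * m.c4.a4 + a.a5 * m.c5.a4 + a.a6 * m.c6.a4) % 3,
   (a.a0 * m.c0.a5 + a.a1 * m.c1.a5 + a.a2 * m.c2.a5 + a.a3 * m.c3.a5 + a.a4 * m.c4.a5 + a.a5 * m.c5.a5 + a.a6 * m.c6.a5) % 3,
   (a.a0 * m.c0.a6 + a.a1 * m.c1.a6 + a.a2 * m.c2.a6 + a.a3 * m.c3.a6 + a.a4 * m.c4.a6 + a.a5 * m.c5.a6 + a.a6 * m.c6.a6) % 3⟩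

/-- matrix product -/
def mm (a b : M7) : M7 :=
  ⟨mv a b.c0, mv a b.c1, mv a b.c2, mv a b.c3, mv a b.c4, mv a b.c5, mv a b.c6⟩

/-- the identity matrix -/
def one7 : M7 :=
  ⟨⟨1,0,0,0,0,0,0⟩,⟨0,1,0,0,0,0,0⟩,⟨0,0,1,0,0,0,0⟩,⟨0,0,0,1,0,0,0⟩,⟨0,0,0,0,1,0,0⟩,⟨0,0,0,0,0,1,0⟩,⟨0,0,0,0,0,0,1⟩⟩

/-- the quadratic form `x0^2 + x1 y1 + x2 y2 + x3 y3` -/
def qV (a : V7) : ℕ := (a.a0 * a.a0 + a.a1 * a.a4 + a.a2 * a.a5 + a.a3 * a.a6) % 3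

/-- its polar form -/
def bV (a b : V7) : ℕ :=
  (2 * a.a0 * b.a0 + a.a1 * b.a4 + a.a4 * b.a1 + a.a2 * b.a5 + a.a5 * b.a2 + a.a3 * b.a6 + a.a6 * b.a3) % 3

/-- all entries are `< 3` -/
def V7.red (a : V7) : Bool :=
  decide (a.a0 < 3) && decide (a.a1 < 3) && decide (a.a2 < 3) && decide (a.a3 < 3) && decide (a.a4 < 3) &&
    decide (a.a5 < 3) && decide (a.a6 < 3)

/-- all entries are `< 3` -/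
def M7.red (m : M7) : Bool :=
  m.c0.red && m.c1.red && m.c2.red && m.c3.red && m.c4.red && m.c5.red && m.c6.red

/-- the columns preserve the quadratic form and the polar form on the standard basis: `m` is an isometry -/
def isoChk (m : M7) : Bool :=
  decide (qV m.c0 = 1) && decide (qV m.c1 = 0) && decide (qV m.c2 = 0) && decide (qV m.c3 = 0) &&
  decide (qV m.c4 = 0) && decide (qV m.c5 = 0) && decide (qV m.c6 = 0) &&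
  decide (bV m.c0 m.c1 = 0) && decide (bV m.c0 m.c2 = 0) && decide (bV m.c0 m.c3 = 0) &&
  decide (bV m.c0 m.c4 = 0) && decide (bV m.c0 m.c5 = 0) && decide (bV m.c0 m.c6 = 0) &&
  decide (bV m.c1 m.c2 = 0) && decide (bV m.c1 m.c3 = 0) && decide (bV m.c1 m.c4 = 1) &&
  decide (bV m.c1 m.c5 = 0) && decide (bV m.c1 m.c6 = 0) &&
  decide (bV m.c2 m.c3 = 0) && decide (bV m.c2 m.c4 = 0) && decide (bV m.c2 m.c5 = 1) &&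
  decide (bV m.c2 m.c6 = 0) &&
  decide (bV m.c3 m.c4 = 0) && decide (bV m.c3 m.c5 = 0) && decide (bV m.c3 m.c6 = 1) &&
  decide (bV m.c4 m.c5 = 0) && decide (bV m.c4 m.c6 = 0) && decide (bV m.c5 m.c6 = 0)

/-- flag-unitriangular shape for the flag order `x1 < x2 < x3 < e0 < y3 < y2 < y1`:
column `v` has coordinate `1` at `v` and `0` at every later position -/
def fuChk (m : M7) : Bool :=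
  -- column x1
  decide (m.c1.a1 = 1) && decide (m.c1.a2 = 0) && decide (m.c1.a3 = 0) && decide (m.c1.a0 = 0) &&
  decide (m.c1.a6 = 0) && decide (m.c1.a5 = 0) && decide (m.c1.a4 = 0) &&
  -- column x2
  decide (m.c2.a2 = 1) && decide (m.c2.a3 = 0) && decide (m.c2.a0 = 0) &&
  decide (m.c2.a6 = 0) && decide (m.c2.a5 = 0) && decide (m.c2.a4 = 0) &&
  -- column x3
  decide (m.c3.a3 = 1) && decide (m.c3.a0 = 0) &&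
  decide (m.c3.a6 = 0) && decide (m.c3.a5 = 0) && decide (m.c3.a4 = 0) &&
  -- column e0
  decide (m.c0.a0 = 1) && decide (m.c0.a6 = 0) && decide (m.c0.a5 = 0) && decide (m.c0.a4 = 0) &&
  -- column y3
  decide (m.c6.a6 = 1) && decide (m.c6.a5 = 0) && decide (m.c6.a4 = 0) &&
  -- column y2
  decide (m.c5.a5 = 1) && decide (m.c5.a4 = 0) &&
  -- column y1
  decide (m.c4.a4 = 1)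

/-- the element of the Sylow 3-subgroup `U` with parameter `n < 3^9`; the base-3 digits of `n` are
`a12, a13, a23, b1, b2, b3, s12, s13, s23` -/
def Mp (n : ℕ) : M7 :=
  let a12 := n % 3
  let a13 := n / 3 % 3
  let a23 := n / 9 % 3
  let b1 := n / 27 % 3
  let b2 := n / 81 % 3
  let b3 := n / 243 % 3
  let s12 := n / 729 % 3
  let s13 := n / 2187 % 3
  let s23 := n / 6561 % 3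
  -- a' = transpose of the inverse of a
  let p21 := 2 * a12 % 3
  let p31 := (a12 * a23 + 2 * a13) % 3
  let p32 := 2 * a23 % 3
  -- d = b^T a'
  let d1 := (b1 + p21 * b2 + p31 * b3) % 3
  let d2 := (b2 + p32 * b3) % 3
  let d3 := b3
  -- C = S - d^T d
  let t11 := 2 * d1 * d1 % 3
  let t12 := (s12 + 2 * d1 * d2) % 3
  let t13 := (s13 + 2 * d1 * d3) % 3
  let t21 := (2 * s12 + 2 * d2 * d1) % 3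
  let t22 := 2 * d2 * d2 % 3
  let t23 := (s23 + 2 * d2 * d3) % 3
  let t31 := (2 * s13 + 2 * d3 * d1) % 3
  let t32 := (2 * s23 + 2 * d3 * d2) % 3
  let t33 := 2 * d3 * d3 % 3
  -- c = a C
  ⟨⟨1, b1, b2, b3, 0, 0, 0⟩,
   ⟨0, 1, 0, 0, 0, 0, 0⟩,
   ⟨0, a12, 1, 0, 0, 0, 0⟩,
   ⟨0, a13, a23, 1, 0, 0, 0⟩,
   ⟨d1, (t11 + a12 * t21 + a13 * t31) % 3, (t21 + a23 * t31) % 3, t31, 1, p21, p31⟩,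
   ⟨d2, (t12 + a12 * t22 + a13 * t32) % 3, (t22 + a23 * t32) % 3, t32, 0, 1, p32⟩,
   ⟨d3, (t13 + a12 * t23 + a13 * t33) % 3, (t23 + a23 * t33) % 3, t33, 0, 0, 1⟩⟩

/-- recover the parameter from the matrix -/
def par (m : M7) : ℕ :=
  let a12 := m.c2.a1
  let a13 := m.c3.a1
  let a23 := m.c3.a2
  let b1 := m.c0.a1
  let b2 := m.c0.a2
  let b3 := m.c0.a3
  let d1 := m.c4.a0
  let d2 := m.c5.a0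
  let d3 := m.c6.a0
  -- C = a^{-1} c ; rows of a^{-1}: (1, -a12, a12 a23 - a13), (0, 1, -a23), (0,0,1)
  let t12 := (m.c5.a1 + 2 * a12 * m.c5.a2 + (a12 * a23 + 2 * a13) * m.c5.a3) % 3
  let t13 := (m.c6.a1 + 2 * a12 * m.c6.a2 + (a12 * a23 + 2 * a13) * m.c6.a3) % 3
  let t23 := (m.c6.a2 + 2 * a23 * m.c6.a3) % 3
  let s12 := (t12 + d1 * d2) % 3
  let s13 := (t13 + d1 * d3) % 3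
  let s23 := (t23 + d2 * d3) % 3
  a12 + 3 * a13 + 9 * a23 + 27 * b1 + 81 * b2 + 243 * b3 + 729 * s12 + 2187 * s13 + 6561 * s23

/-- the eighteen root elements (all of order 3) -/
def gen : ℕ → M7
  | 0 => ⟨⟨1,0,0,0,0,0,0⟩,⟨0,1,0,0,0,0,0⟩,⟨0,0,1,0,0,0,0⟩,⟨0,0,0,1,0,0,0⟩,⟨0,0,1,0,1,0,0⟩,⟨0,2,0,0,0,1,0⟩,⟨0,0,0,0,0,0,1⟩⟩  -- x1x2
  | 1 => ⟨⟨1,0,0,0,0,0,0⟩,⟨0,1,0,0,0,0,0⟩,⟨0,0,1,0,0,0,0⟩,⟨0,0,0,1,0,0,0⟩,⟨0,0,0,1,1,0,0⟩,⟨0,0,0,0,0,1,0⟩,⟨0,2,0,0,0,0,1⟩⟩  -- x1x3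
  | 2 => ⟨⟨1,0,0,0,0,0,0⟩,⟨0,1,0,0,0,0,0⟩,⟨0,0,1,0,0,0,0⟩,⟨0,0,0,1,0,0,0⟩,⟨0,0,0,0,1,0,0⟩,⟨0,0,0,1,0,1,0⟩,⟨0,0,2,0,0,0,1⟩⟩  -- x2x3
  | 3 => ⟨⟨1,0,0,0,0,0,0⟩,⟨0,1,0,0,0,1,0⟩,⟨0,0,1,0,2,0,0⟩,⟨0,0,0,1,0,0,0⟩,⟨0,0,0,0,1,0,0⟩,⟨0,0,0,0,0,1,0⟩,⟨0,0,0,0,0,0,1⟩⟩  -- y1y2
  | 4 => ⟨⟨1,0,0,0,0,0,0⟩,⟨0,1,0,0,0,0,1⟩,⟨0,0,1,0,0,0,0⟩,⟨0,0,0,1,2,0,0⟩,⟨0,0,0,0,1,0,0⟩,⟨0,0,0,0,0,1,0⟩,⟨0,0,0,0,0,0,1⟩⟩  -- y1y3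
  | 5 => ⟨⟨1,0,0,0,0,0,0⟩,⟨0,1,0,0,0,0,0⟩,⟨0,0,1,0,0,0,1⟩,⟨0,0,0,1,0,2,0⟩,⟨0,0,0,0,1,0,0⟩,⟨0,0,0,0,0,1,0⟩,⟨0,0,0,0,0,0,1⟩⟩  -- y2y3
  | 6 => ⟨⟨1,0,0,0,0,0,0⟩,⟨0,1,0,0,0,0,0⟩,⟨0,2,1,0,0,0,0⟩,⟨0,0,0,1,0,0,0⟩,⟨0,0,0,0,1,1,0⟩,⟨0,0,0,0,0,1,0⟩,⟨0,0,0,0,0,0,1⟩⟩  -- x1y2
  | 7 => ⟨⟨1,0,0,0,0,0,0⟩,⟨0,1,0,0,0,0,0⟩,⟨0,0,1,0,0,0,0⟩,⟨0,2,0,1,0,0,0⟩,⟨0,0,0,0,1,0,1⟩,⟨0,0,0,0,0,1,0⟩,⟨0,0,0,0,0,0,1⟩⟩  -- x1y3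
  | 8 => ⟨⟨1,0,0,0,0,0,0⟩,⟨0,1,2,0,0,0,0⟩,⟨0,0,1,0,0,0,0⟩,⟨0,0,0,1,0,0,0⟩,⟨0,0,0,0,1,0,0⟩,⟨0,0,0,0,1,1,0⟩,⟨0,0,0,0,0,0,1⟩⟩  -- x2y1
  | 9 => ⟨⟨1,0,0,0,0,0,0⟩,⟨0,1,0,0,0,0,0⟩,⟨0,0,1,0,0,0,0⟩,⟨0,0,2,1,0,0,0⟩,⟨0,0,0,0,1,0,0⟩,⟨0,0,0,0,0,1,1⟩,⟨0,0,0,0,0,0,1⟩⟩  -- x2y3
  | 10 => ⟨⟨1,0,0,0,0,0,0⟩,⟨0,1,0,2,0,0,0⟩,⟨0,0,1,0,0,0,0⟩,⟨0,0,0,1,0,0,0⟩,⟨0,0,0,0,1,0,0⟩,⟨0,0,0,0,0,1,0⟩,⟨0,0,0,0,1,0,1⟩⟩  -- x3y1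
  | 11 => ⟨⟨1,0,0,0,0,0,0⟩,⟨0,1,0,0,0,0,0⟩,⟨0,0,1,2,0,0,0⟩,⟨0,0,0,1,0,0,0⟩,⟨0,0,0,0,1,0,0⟩,⟨0,0,0,0,0,1,0⟩,⟨0,0,0,0,0,1,1⟩⟩  -- x3y2
  | 12 => ⟨⟨1,1,0,0,0,0,0⟩,⟨0,1,0,0,0,0,0⟩,⟨0,0,1,0,0,0,0⟩,⟨0,0,0,1,0,0,0⟩,⟨1,2,0,0,1,0,0⟩,⟨0,0,0,0,0,1,0⟩,⟨0,0,0,0,0,0,1⟩⟩  -- x1e
  | 13 => ⟨⟨1,0,1,0,0,0,0⟩,⟨0,1,0,0,0,0,0⟩,⟨0,0,1,0,0,0,0⟩,⟨0,0,0,1,0,0,0⟩,⟨0,0,0,0,1,0,0⟩,⟨1,0,2,0,0,1,0⟩,⟨0,0,0,0,0,0,1⟩⟩  -- x2e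
  | 14 => ⟨⟨1,0,0,1,0,0,0⟩,⟨0,1,0,0,0,0,0⟩,⟨0,0,1,0,0,0,0⟩,⟨0,0,0,1,0,0,0⟩,⟨0,0,0,0,1,0,0⟩,⟨0,0,0,0,0,1,0⟩,⟨1,0,0,2,0,0,1⟩⟩  -- x3e
  | 15 => ⟨⟨1,0,0,0,1,0,0⟩,⟨1,1,0,0,2,0,0⟩,⟨0,0,1,0,0,0,0⟩,⟨0,0,0,1,0,0,0⟩,⟨0,0,0,0,1,0,0⟩,⟨0,0,0,0,0,1,0⟩,⟨0,0,0,0,0,0,1⟩⟩  -- y1e
  | 16 => ⟨⟨1,0,0,0,0,1,0⟩,⟨0,1,0,0,0,0,0⟩,⟨1,0,1,0,0,2,0⟩,⟨0,0,0,1,0,0,0⟩,⟨0,0,0,0,1,0,0⟩,⟨0,0,0,0,0,1,0⟩,⟨0,0,0,0,0,0,1⟩⟩  -- y2e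
  | 17 => ⟨⟨1,0,0,0,0,0,1⟩,⟨0,1,0,0,0,0,0⟩,⟨0,0,1,0,0,0,0⟩,⟨1,0,0,1,0,0,2⟩,⟨0,0,0,0,1,0,0⟩,⟨0,0,0,0,0,1,0⟩,⟨0,0,0,0,0,0,1⟩⟩  -- y3e
  | _ => one7

/-- one move: `k < 18`: conjugation by `gen k`; `18 ≤ k < 36`: conjugation by `(gen (k-18))^2`;
otherwise squaring -/
def move (m : M7) (k : ℕ) : M7 :=
  if k < 18 then mm (gen k) (mm m (mm (gen k) (gen k)))
  else if k < 36 then mm (mm (gen (k - 18)) (gen (k - 18))) (mm m (gen (k - 18)))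
  else mm m m

/-- run a word of moves -/
def run (m : M7) : List ℕ → M7
  | [] => m
  | k :: w => run (move m k) w

/-- parameters of the seven representatives -/
def repN : ℕ → ℕ
  | 0 => 6561
  | 1 => 13131
  | 2 => 243
  | 3 => 972
  | 4 => 1701
  | 5 => 6597
  | _ => 2196

/-- the seven representatives -/
def rep (c : ℕ) : M7 := Mp (repN c)

/-- certificates -/
inductive Cert where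
  /-- the matrix is the identity -/
  | one
  /-- the cube moves the basis vector number `j` -/
  | o9 (j : ℕ)
  /-- the word `w` leads to the representative number `c` -/
  | cj (c : ℕ) (w : List ℕ)

/-- basis vectors -/
def bas : ℕ → V7
  | 0 => ⟨1,0,0,0,0,0,0⟩
  | 1 => ⟨0,1,0,0,0,0,0⟩
  | 2 => ⟨0,0,1,0,0,0,0⟩
  | 3 => ⟨0,0,0,1,0,0,0⟩
  | 4 => ⟨0,0,0,0,1,0,0⟩
  | 5 => ⟨0,0,0,0,0,1,0⟩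
  | _ => ⟨0,0,0,0,0,0,1⟩

/-- check a certificate for the parameter `n` -/
def chk (n : ℕ) : Cert → Bool
  | .one => decide (Mp n = one7)
  | .o9 j => decide (mv (Mp n) (mv (Mp n) (mv (Mp n) (bas j))) ≠ bas j)
  | .cj c w => decide (c < 7) && decide (run (Mp n) w = rep c)

/-- check a block of certificates for the parameters `s, s+1, ...` -/
def chkAll : ℕ → List Cert → Bool
  | _, [] => true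
  | s, c :: l => chk s c && chkAll (s + 1) l

/-- the basic checks for the parameters `s, ..., s + k - 1` -/
def basicAll : ℕ → ℕ → Bool
  | _, 0 => true
  | s, k + 1 => isoChk (Mp s) && fuChk (Mp s) && decide (par (Mp s) = s) && basicAll (s + 1) k

/-- the element `t1`: `-1` on the hyperbolic plane spanned by `x1, y1` (in `SO`, outside `Ω`) -/
def t1m : M7 :=
  ⟨⟨1,0,0,0,0,0,0⟩,⟨0,2,0,0,0,0,0⟩,⟨0,0,1,0,0,0,0⟩,⟨0,0,0,1,0,0,0⟩,⟨0,0,0,0,2,0,0⟩,⟨0,0,0,0,0,1,0⟩,⟨0,0,0,0,0,0,1⟩⟩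

/-- the element `tau`: `e0 ↦ -e0`, `x1 ↔ x2`, `y1 ↔ y2` (an involution inverting `rep 3`) -/
def taum : M7 :=
  ⟨⟨2,0,0,0,0,0,0⟩,⟨0,0,1,0,0,0,0⟩,⟨0,1,0,0,0,0,0⟩,⟨0,0,0,1,0,0,0⟩,⟨0,0,0,0,0,1,0⟩,⟨0,0,0,0,1,0,0⟩,⟨0,0,0,0,0,0,1⟩⟩

/-- a predicate holds for `0, 1, 2` -/
def tri (p : ℕ → Bool) : Bool := p 0 && p 1 && p 2

/-- a predicate holds for all the `3^7` reduced vectors -/
def allV (p : V7 → Bool) : Bool :=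
  tri fun a0 => tri fun a1 => tri fun a2 => tri fun a3 => tri fun a4 => tri fun a5 => tri fun a6 =>
    p ⟨a0, a1, a2, a3, a4, a5, a6⟩

/-- matrix minus the identity, applied to a vector -/
def nv (m : M7) (a : V7) : V7 :=
  let b := mv m a
  ⟨(b.a0 + 2 * a.a0) % 3, (b.a1 + 2 * a.a1) % 3, (b.a2 + 2 * a.a2) % 3, (b.a3 + 2 * a.a3) % 3,
   (b.a4 + 2 * a.a4) % 3, (b.a5 + 2 * a.a5) % 3, (b.a6 + 2 * a.a6) % 3⟩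

end Cfsg.Agent.Lib.Helper28.O73C
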