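import Cfsg.Agent.Lib.Helper28.O73C.Data.Basic0
import Cfsg.Agent.Lib.Helper28.O73C.Data.Basic1
import Cfsg.Agent.Lib.Helper28.O73C.Data.Basic2

/-! Project O73C (S5514), piece DB: the basic data (helper28). -/

set_option autoImplicit false

namespace Cfsg.Agent.Lib.Helper28.O73C

theorem h28_basicAll_spec : ∀ (k s : ℕ), basicAll s k = true → ∀ n, s ≤ n → n < s + k →
    isoChk (Mp n) = true ∧ fuChk (Mp n) = true ∧ par (Mp n) = n := by
  intro k
  induction k with
  | zero => intro s _ n h1 h2; omega
  | succ k ih =>
    intro s h n h1 h2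
    unfold basicAll at h
    simp only [Bool.and_eq_true, decide_eq_true_eq] at h
    obtain ⟨⟨⟨ha, hb⟩, hc⟩, hd⟩ := h
    by_cases hn : n = s
    · subst hn
      exact ⟨ha, hb, hc⟩
    · exact ih (s + 1) hd n (by omega) (by omega)

theorem basic_all (n : ℕ) (hn : n < 19683) :
    isoChk (Mp n) = true ∧ fuChk (Mp n) = true ∧ par (Mp n) = n := by
  have hk : n / 729 < 27 := by omega
  have hdiv := Nat.div_add_mod n 729
  have hmod := Nat.mod_lt n (by norm_num : 729 > 0)
  generalize n / 729 = k at hk hdiv
  interval_cases k
  · exact h28_basicAll_spec 729 0 h28_basic_0 n (by omega) (by omega)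
  · exact h28_basicAll_spec 729 729 h28_basic_1 n (by omega) (by omega)
  · exact h28_basicAll_spec 729 1458 h28_basic_2 n (by omega) (by omega)
  · exact h28_basicAll_spec 729 2187 h28_basic_3 n (by omega) (by omega)
  · exact h28_basicAll_spec 729 2916 h28_basic_4 n (by omega) (by omega)
  · exact h28_basicAll_spec 729 3645 h28_basic_5 n (by omega) (by omega)
  · exact h28_basicAll_spec 729 4374 h28_basic_6 n (by omega) (by omega)
  · exact h28_basicAll_spec 729 5103 h28_basic_7 n (by omega) (by omega)
  · exact h28_basicAll_spec 729 5832 h28_basic_8 n (by omega) (by omega)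
  · exact h28_basicAll_spec 729 6561 h28_basic_9 n (by omega) (by omega)
  · exact h28_basicAll_spec 729 7290 h28_basic_10 n (by omega) (by omega)
  · exact h28_basicAll_spec 729 8019 h28_basic_11 n (by omega) (by omega)
  · exact h28_basicAll_spec 729 8748 h28_basic_12 n (by omega) (by omega)
  · exact h28_basicAll_spec 729 9477 h28_basic_13 n (by omega) (by omega)
  · exact h28_basicAll_spec 729 10206 h28_basic_14 n (by omega) (by omega)
  · exact h28_basicAll_spec 729 10935 h28_basic_15 n (by omega) (by omega)
  · exact h28_basicAll_spec 729 11664 h28_basic_16 n (by omega) (by omega)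
  · exact h28_basicAll_spec 729 12393 h28_basic_17 n (by omega) (by omega)
  · exact h28_basicAll_spec 729 13122 h28_basic_18 n (by omega) (by omega)
  · exact h28_basicAll_spec 729 13851 h28_basic_19 n (by omega) (by omega)
  · exact h28_basicAll_spec 729 14580 h28_basic_20 n (by omega) (by omega)
  · exact h28_basicAll_spec 729 15309 h28_basic_21 n (by omega) (by omega)
  · exact h28_basicAll_spec 729 16038 h28_basic_22 n (by omega) (by omega)
  · exact h28_basicAll_spec 729 16767 h28_basic_23 n (by omega) (by omega)
  · exact h28_basicAll_spec 729 17496 h28_basic_24 n (by omega) (by omega)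
  · exact h28_basicAll_spec 729 18225 h28_basic_25 n (by omega) (by omega)
  · exact h28_basicAll_spec 729 18954 h28_basic_26 n (by omega) (by omega)

end Cfsg.Agent.Lib.Helper28.O73C
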