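import Cfsg.Agent.Lib.Helper28.O73C.Data.Cert00
import Cfsg.Agent.Lib.Helper28.O73C.Data.Cert01
import Cfsg.Agent.Lib.Helper28.O73C.Data.Cert02
import Cfsg.Agent.Lib.Helper28.O73C.Data.Cert03
import Cfsg.Agent.Lib.Helper28.O73C.Data.Cert04
import Cfsg.Agent.Lib.Helper28.O73C.Data.Cert05
import Cfsg.Agent.Lib.Helper28.O73C.Data.Cert06
import Cfsg.Agent.Lib.Helper28.O73C.Data.Cert07
import Cfsg.Agent.Lib.Helper28.O73C.Data.Cert08
import Cfsg.Agent.Lib.Helper28.O73C.Data.Cert09
import Cfsg.Agent.Lib.Helper28.O73C.Data.Cert10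
import Cfsg.Agent.Lib.Helper28.O73C.Data.Cert11
import Cfsg.Agent.Lib.Helper28.O73C.Data.Cert12
import Cfsg.Agent.Lib.Helper28.O73C.Data.Cert13
import Cfsg.Agent.Lib.Helper28.O73C.Data.Cert14
import Cfsg.Agent.Lib.Helper28.O73C.Data.Cert15
import Cfsg.Agent.Lib.Helper28.O73C.Data.Cert16
import Cfsg.Agent.Lib.Helper28.O73C.Data.Cert17
import Cfsg.Agent.Lib.Helper28.O73C.Data.Cert18
import Cfsg.Agent.Lib.Helper28.O73C.Data.Cert19
import Cfsg.Agent.Lib.Helper28.O73C.Data.Cert20
import Cfsg.Agent.Lib.Helper28.O73C.Data.Cert21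
import Cfsg.Agent.Lib.Helper28.O73C.Data.Cert22
import Cfsg.Agent.Lib.Helper28.O73C.Data.Cert23
import Cfsg.Agent.Lib.Helper28.O73C.Data.Cert24
import Cfsg.Agent.Lib.Helper28.O73C.Data.Cert25
import Cfsg.Agent.Lib.Helper28.O73C.Data.Cert26

/-! Project O73C (S5514), piece DC: the certificates (helper28). -/

set_option autoImplicit false

namespace Cfsg.Agent.Lib.Helper28.O73C

theorem h28_chkAll_spec : ∀ (l : List Cert) (s : ℕ), chkAll s l = true →
    ∀ i (hi : i < l.length), chk (s + i) l[i] = true := by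
  intro l
  induction l with
  | nil => intro s _ i hi; simp at hi
  | cons c l ih =>
    intro s h i hi
    unfold chkAll at h
    rw [Bool.and_eq_true] at h
    cases i with
    | zero => simpa using h.1
    | succ i =>
      have := ih (s + 1) h.2 i (by simpa using hi)
      simp only [List.getElem_cons_succ]
      rw [show s + (i + 1) = s + 1 + i by omega]
      exact this

theorem h28_cert_chunk (s : ℕ) (l : List Cert) (hl : l.length = 729) (h : chkAll s l = true)
    (n : ℕ) (h1 : s ≤ n) (h2 : n < s + 729) : ∃ c : Cert, chk n c = true := by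
  have hi : n - s < l.length := by omega
  refine ⟨l[n - s], ?_⟩
  have := h28_chkAll_spec l s h (n - s) hi
  rwa [show s + (n - s) = n by omega] at this

theorem cert_all (n : ℕ) (hn : n < 19683) : ∃ c : Cert, chk n c = true := by
  have hk : n / 729 < 27 := by omega
  have hdiv := Nat.div_add_mod n 729
  have hmod := Nat.mod_lt n (by norm_num : 729 > 0)
  generalize n / 729 = k at hk hdiv
  interval_cases k
  · exact h28_cert_chunk 0 h28_certs_0 h28_len_0 h28_chk_0 n (by omega) (by omega)
  · exact h28_cert_chunk 729 h28_certs_1 h28_len_1 h28_chk_1 n (by omega) (by omega)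
  · exact h28_cert_chunk 1458 h28_certs_2 h28_len_2 h28_chk_2 n (by omega) (by omega)
  · exact h28_cert_chunk 2187 h28_certs_3 h28_len_3 h28_chk_3 n (by omega) (by omega)
  · exact h28_cert_chunk 2916 h28_certs_4 h28_len_4 h28_chk_4 n (by omega) (by omega)
  · exact h28_cert_chunk 3645 h28_certs_5 h28_len_5 h28_chk_5 n (by omega) (by omega)
  · exact h28_cert_chunk 4374 h28_certs_6 h28_len_6 h28_chk_6 n (by omega) (by omega)
  · exact h28_cert_chunk 5103 h28_certs_7 h28_len_7 h28_chk_7 n (by omega) (by omega)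
  · exact h28_cert_chunk 5832 h28_certs_8 h28_len_8 h28_chk_8 n (by omega) (by omega)
  · exact h28_cert_chunk 6561 h28_certs_9 h28_len_9 h28_chk_9 n (by omega) (by omega)
  · exact h28_cert_chunk 7290 h28_certs_10 h28_len_10 h28_chk_10 n (by omega) (by omega)
  · exact h28_cert_chunk 8019 h28_certs_11 h28_len_11 h28_chk_11 n (by omega) (by omega)
  · exact h28_cert_chunk 8748 h28_certs_12 h28_len_12 h28_chk_12 n (by omega) (by omega)
  · exact h28_cert_chunk 9477 h28_certs_13 h28_len_13 h28_chk_13 n (by omega) (by omega)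
  · exact h28_cert_chunk 10206 h28_certs_14 h28_len_14 h28_chk_14 n (by omega) (by omega)
  · exact h28_cert_chunk 10935 h28_certs_15 h28_len_15 h28_chk_15 n (by omega) (by omega)
  · exact h28_cert_chunk 11664 h28_certs_16 h28_len_16 h28_chk_16 n (by omega) (by omega)
  · exact h28_cert_chunk 12393 h28_certs_17 h28_len_17 h28_chk_17 n (by omega) (by omega)
  · exact h28_cert_chunk 13122 h28_certs_18 h28_len_18 h28_chk_18 n (by omega) (by omega)
  · exact h28_cert_chunk 13851 h28_certs_19 h28_len_19 h28_chk_19 n (by omega) (by omega)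
  · exact h28_cert_chunk 14580 h28_certs_20 h28_len_20 h28_chk_20 n (by omega) (by omega)
  · exact h28_cert_chunk 15309 h28_certs_21 h28_len_21 h28_chk_21 n (by omega) (by omega)
  · exact h28_cert_chunk 16038 h28_certs_22 h28_len_22 h28_chk_22 n (by omega) (by omega)
  · exact h28_cert_chunk 16767 h28_certs_23 h28_len_23 h28_chk_23 n (by omega) (by omega)
  · exact h28_cert_chunk 17496 h28_certs_24 h28_len_24 h28_chk_24 n (by omega) (by omega)
  · exact h28_cert_chunk 18225 h28_certs_25 h28_len_25 h28_chk_25 n (by omega) (by omega)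
  · exact h28_cert_chunk 18954 h28_certs_26 h28_len_26 h28_chk_26 n (by omega) (by omega)

end Cfsg.Agent.Lib.Helper28.O73C
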