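import Mathlib

/-!
Project O73C (S5514): from classes of elements of order three to classes of subgroups of order
three; generic group theory (helper28).
-/

set_option autoImplicit false

namespace Cfsg.Agent.Lib.Helper28.O73C

theorem h28_mem_zpowers_three {G : Type*} [Group G] {x y : G} (hx : orderOf x = 3)
    (hy : y ∈ Subgroup.zpowers x) : y = 1 ∨ y = x ∨ y = x ^ 2 := by
  obtain ⟨k, rfl⟩ := Subgroup.mem_zpowers_iff.mp hy
  have h1 := zpow_mod_orderOf x k
  rw [hx] at h1
  have h2 : 0 ≤ k % (3 : ℤ) := Int.emod_nonneg k (by norm_num)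
  have h3 : k % (3 : ℤ) < 3 := Int.emod_lt_of_pos k (by norm_num)
  rw [← h1]
  push_cast at h2 h3 ⊢
  obtain ⟨m, hm⟩ : ∃ m : ℕ, k % (3 : ℤ) = (m : ℤ) := ⟨(k % 3).toNat, (Int.toNat_of_nonneg h2).symm⟩
  rw [hm] at h3 ⊢
  have hm3 : m < 3 := by exact_mod_cast h3
  rw [zpow_natCast]
  interval_cases m
  · left; simp
  · right; left; simp
  · right; right; rfl

theorem h28_zpowers_sq {G : Type*} [Group G] {x : G} (hx : orderOf x = 3) :
    Subgroup.zpowers (x ^ 2) = Subgroup.zpowers x := by
  apply le_antisymm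
  · rw [Subgroup.zpowers_le]
    exact Subgroup.pow_mem _ (Subgroup.mem_zpowers x) 2
  · rw [Subgroup.zpowers_le]
    have h3 : x ^ 3 = 1 := by rw [← hx]; exact pow_orderOf_eq_one x
    have : x = (x ^ 2) ^ 2 := by
      rw [← pow_mul]
      calc x = x * 1 := (mul_one x).symm
        _ = x * x ^ 3 := by rw [h3]
        _ = x ^ (2 * 2) := by rw [← pow_succ']
    have hmem : (x ^ 2) ^ 2 ∈ Subgroup.zpowers (x ^ 2) :=
      Subgroup.pow_mem _ (Subgroup.mem_zpowers (x ^ 2)) 2
    rwa [← this] at hmem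

/-- classes of subgroups of order three from classes of elements of order three -/
theorem subgroup_classes_of_elements {G : Type*} [Group G] {n : ℕ} (r : Fin n → G)
    (h3 : ∀ i, orderOf (r i) = 3)
    (hA : ∀ g : G, orderOf g = 3 → ∃ i, ∃ h : G, h * g * h⁻¹ = r i ∨ h * g * h⁻¹ = (r i) ^ 2)
    (hB : ∀ i j, ∀ h : G, (h * r i * h⁻¹ = r j ∨ h * r i * h⁻¹ = (r j) ^ 2) → i = j) :
    ∃ Y : Fin n → Subgroup G, (∀ i, Nat.card (Y i) = 3) ∧
      (∀ i j, (∃ g : G, (Y i).map (MulAut.conj g).toMonoidHom = Y j) → i = j) ∧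
      ∀ X : Subgroup G, Nat.card X = 3 →
        ∃ i, ∃ g : G, X.map (MulAut.conj g).toMonoidHom = Y i := by
  refine ⟨fun i => Subgroup.zpowers (r i), fun i => ?_, fun i j => ?_, fun X hX => ?_⟩
  · rw [Nat.card_zpowers, h3]
  · rintro ⟨g, hg⟩
    rw [MonoidHom.map_zpowers] at hg
    have hmem : g * r i * g⁻¹ ∈ Subgroup.zpowers (r j) := by
      have hg' : Subgroup.zpowers ((MulEquiv.toMonoidHom (MulAut.conj g)) (r i)) =
          Subgroup.zpowers (r j) := hg
      rw [← hg']
      exact Subgroup.mem_zpowers _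
    rcases h28_mem_zpowers_three (h3 j) hmem with h | h | h
    · exfalso
      have h1 : r i = 1 := by
        have := congrArg (fun z => g⁻¹ * z * g) h
        simpa [mul_assoc] using this
      have := h3 i
      rw [h1, orderOf_one] at this
      omega
    · exact hB i j g (Or.inl h)
    · exact hB i j g (Or.inr h)
  · have : Fact (Nat.Prime 3) := ⟨by norm_num⟩
    have : IsCyclic X := isCyclic_of_prime_card hX
    obtain ⟨x, hx⟩ := IsCyclic.exists_generator (α := X)
    have hox : orderOf x = 3 := by rw [orderOf_eq_card_of_forall_mem_zpowers hx, hX]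
    have hox' : orderOf (x : G) = 3 := by rw [Subgroup.orderOf_coe, hox]
    have hXz : X = Subgroup.zpowers (x : G) := by
      apply le_antisymm
      · intro y hy
        obtain ⟨k, hk⟩ := Subgroup.mem_zpowers_iff.mp (hx ⟨y, hy⟩)
        rw [Subgroup.mem_zpowers_iff]
        refine ⟨k, ?_⟩
        have := congrArg (fun z : X => (z : G)) hk
        simpa using this
      · rw [Subgroup.zpowers_le]
        exact x.2
    obtain ⟨i, h, hh⟩ := hA (x : G) hox'
    refine ⟨i, h, ?_⟩
    rw [hXz, MonoidHom.map_zpowers]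
    rcases hh with hh | hh
    · change Subgroup.zpowers (h * (x : G) * h⁻¹) = _
      rw [hh]
    · change Subgroup.zpowers (h * (x : G) * h⁻¹) = _
      rw [hh, h28_zpowers_sq (h3 i)]

/-- transport of the element statement along an isomorphism -/
theorem subgroup_classes_of_equiv {G H : Type*} [Group G] [Group H] (e : G ≃* H) {n : ℕ}
    (r : Fin n → H) (h3 : ∀ i, orderOf (r i) = 3)
    (hA : ∀ g : H, orderOf g = 3 → ∃ i, ∃ h : H, h * g * h⁻¹ = r i ∨ h * g * h⁻¹ = (r i) ^ 2)
    (hB : ∀ i j, ∀ h : H, (h * r i * h⁻¹ = r j ∨ h * r i * h⁻¹ = (r j) ^ 2) → i = j) :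
    ∃ Y : Fin n → Subgroup G, (∀ i, Nat.card (Y i) = 3) ∧
      (∀ i j, (∃ g : G, (Y i).map (MulAut.conj g).toMonoidHom = Y j) → i = j) ∧
      ∀ X : Subgroup G, Nat.card X = 3 →
        ∃ i, ∃ g : G, X.map (MulAut.conj g).toMonoidHom = Y i := by
  apply subgroup_classes_of_elements (fun i => e.symm (r i))
  · intro i
    rw [MulEquiv.orderOf_eq, h3]
  · intro g hg
    have hg' : orderOf (e g) = 3 := by rw [MulEquiv.orderOf_eq, hg]
    obtain ⟨i, h, hh⟩ := hA (e g) hg'
    refine ⟨i, e.symm h, ?_⟩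
    rcases hh with hh | hh
    · left
      rw [← hh]
      simp
    · right
      rw [← map_pow, ← hh]
      simp
  · intro i j h hh
    apply hB i j (e h)
    rcases hh with hh | hh
    · left
      have := congrArg e hh
      simpa using this
    · right
      have := congrArg e hh
      simpa using this

end Cfsg.Agent.Lib.Helper28.O73C
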