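import Cfsg.Agent.Lib.Helper28.O73C.Defs
import Cfsg.Agent.Lib.Helper22.O73CCA
import Cfsg.Agent.Lib.Helper13.O73CCR
import Cfsg.Agent.Lib.Helper28.O73C.Iso
import Cfsg.Agent.Lib.Helper16.O73COO

/-!
Project O73C (S5514), piece SO: soundness of the certificates (helper28).
-/

set_option autoImplicit false

namespace Cfsg.Agent.Lib.Helper28.O73C

open Cfsg.Agent.Lib.Helper12.O73

set_option maxRecDepth 100000 in
theorem h28_gen_chk : ∀ k < 18, isoChk (gen k) = true ∧
    mm (gen k) (mm (gen k) (gen k)) = one7 := by decide +kernel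

/-- the root elements as isometries in `Ω` -/
theorem h28_gen_exists (k : ℕ) (hk : k < 18) :
    ∃ s : GO, Rep s (gen k) ∧ s ∈ Om ∧ s * (s * s) = 1 := by
  obtain ⟨s, hs⟩ := h28_exists_rep (gen k) (h28_gen_chk k hk).1
  have h3 : s * (s * s) = 1 := by
    have := rep_mul hs (rep_mul hs hs)
    rw [(h28_gen_chk k hk).2] at this
    exact rep_ext this rep_one
  refine ⟨s, hs, mem_Om_of_pow_three s ?_, h3⟩
  rw [pow_succ, pow_two, mul_assoc]
  exact h3

/-- the relation "conjugate in `Ω` to `g` or to `g^2`" -/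
def h28_R (g x : GO) : Prop := ∃ h : GO, h ∈ Om ∧ (x = h * g * h⁻¹ ∨ x = h * g ^ 2 * h⁻¹)

theorem h28_move_sound (g : GO) (h3 : g ^ 3 = 1) (m : M7) (x : GO) (hx : Rep x m)
    (hR : h28_R g x) (k : ℕ) : ∃ x' : GO, Rep x' (move m k) ∧ h28_R g x' := by
  obtain ⟨h, hh, hconj⟩ := hR
  unfold move
  by_cases hk : k < 18
  · rw [if_pos hk]
    obtain ⟨s, hs, hsO, hs3⟩ := h28_gen_exists k hk
    have hsinv : s⁻¹ = s * s := by
      apply inv_eq_of_mul_eq_one_right
      exact hs3
    refine ⟨s * (x * (s * s)), rep_mul hs (rep_mul hx (rep_mul hs hs)), s * h, Om.mul_mem hsO hh, ?_⟩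
    rcases hconj with hc | hc
    · left
      rw [hc, mul_inv_rev, ← hsinv]
      group
    · right
      rw [hc, mul_inv_rev, ← hsinv]
      group
  · rw [if_neg hk]
    by_cases hk2 : k < 36
    · rw [if_pos hk2]
      obtain ⟨s, hs, hsO, hs3⟩ := h28_gen_exists (k - 18) (by omega)
      have hsinv : (s * s)⁻¹ = s := by
        apply inv_eq_of_mul_eq_one_right
        rw [mul_assoc]
        exact hs3
      refine ⟨(s * s) * (x * s), rep_mul (rep_mul hs hs) (rep_mul hx hs), (s * s) * h,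
        Om.mul_mem (Om.mul_mem hsO hsO) hh, ?_⟩
      rcases hconj with hc | hc
      · left
        rw [hc, mul_inv_rev, hsinv]
        group
      · right
        rw [hc, mul_inv_rev, hsinv]
        group
    · rw [if_neg hk2]
      refine ⟨x * x, rep_mul hx hx, h, hh, ?_⟩
      rcases hconj with hc | hc
      · right
        rw [hc, pow_two]
        group
      · left
        rw [hc]
        have : g ^ 2 * g ^ 2 = g := by
          rw [← pow_add]
          calc g ^ (2 + 2) = g ^ 3 * g := by rw [← pow_succ]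
            _ = g := by rw [h3, one_mul]
        calc h * g ^ 2 * h⁻¹ * (h * g ^ 2 * h⁻¹) = h * (g ^ 2 * g ^ 2) * h⁻¹ := by group
          _ = h * g * h⁻¹ := by rw [this]

theorem h28_run_sound (g : GO) (h3 : g ^ 3 = 1) (w : List ℕ) : ∀ (m : M7) (x : GO), Rep x m →
    h28_R g x → ∃ x' : GO, Rep x' (run m w) ∧ h28_R g x' := by
  induction w with
  | nil => intro m x hx hR; exact ⟨x, hx, hR⟩
  | cons k w ih =>
    intro m x hx hR
    obtain ⟨x', hx', hR'⟩ := h28_move_sound g h3 m x hx hR k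
    exact ih (move m k) x' hx' hR'

theorem h28_bas_red (j : ℕ) : (bas j).red = true := by
  unfold bas
  split <;> rfl

theorem chk_sound (n : ℕ) (c : Cert) (g : GO) (hn : n < 19683) (hg : Rep g (Mp n))
    (hc : chk n c = true) (h1 : g ≠ 1) (h3 : g ^ 3 = 1) :
    ∃ k, k < 7 ∧ ∃ h : GO, h ∈ Om ∧ ∃ r : GO, Rep r (rep k) ∧
      (h * g * h⁻¹ = r ∨ h * g * h⁻¹ = r ^ 2) := by
  cases c with
  | one =>
    exfalso
    unfold chk at hc
    rw [decide_eq_true_eq] at hc
    rw [hc] at hg
    exact h1 (rep_ext hg rep_one)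
  | o9 j =>
    exfalso
    unfold chk at hc
    rw [decide_eq_true_eq] at hc
    apply hc
    apply toVec_inj _ _ (mv_red _ _) (h28_bas_red j)
    rw [← rep_mulVec hg, ← rep_mulVec hg, ← rep_mulVec hg, Matrix.mulVec_mulVec, Matrix.mulVec_mulVec]
    have : g.mat * g.mat * g.mat = 1 := by
      have := congrArg (fun x : GO => x.mat) h3
      rw [pow_succ, pow_two] at this
      exact this
    rw [this, Matrix.one_mulVec]
  | cj k w =>
    unfold chk at hc
    rw [Bool.and_eq_true, decide_eq_true_eq, decide_eq_true_eq] at hc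
    obtain ⟨hk, hrun⟩ := hc
    obtain ⟨x', hx', h, hh, hconj⟩ := h28_run_sound g h3 w (Mp n) g hg
      ⟨1, Om.one_mem, Or.inl (by group)⟩
    rw [hrun] at hx'
    refine ⟨k, hk, h, hh, x', hx', ?_⟩
    rcases hconj with hc | hc
    · left; exact hc.symm
    · right
      rw [hc]
      have : g ^ 2 * g ^ 2 = g := by
        rw [← pow_add]
        calc g ^ (2 + 2) = g ^ 3 * g := by rw [← pow_succ]
          _ = g := by rw [h3, one_mul]
      calc h * g * h⁻¹ = h * (g ^ 2 * g ^ 2) * h⁻¹ := by rw [this]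
        _ = (h * g ^ 2 * h⁻¹) * (h * g ^ 2 * h⁻¹) := by group
        _ = (h * g ^ 2 * h⁻¹) ^ 2 := (pow_two _).symm

end Cfsg.Agent.Lib.Helper28.O73C
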