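import Cfsg.Agent.Lib.Helper28.O73C.SplitA
import Cfsg.Agent.Lib.Helper24.O73CSB

/-!
Project O73C (S5514), piece SC (the same statement as `split_C`, under the name `h28_split_C`): the classes of `rep 3` and `rep 4` are different in `Ω` (helper28).
-/

set_option autoImplicit false

namespace Cfsg.Agent.Lib.Helper28.O73C

open Cfsg.Agent.Lib.Helper12.O73 Matrix

theorem h28_t1m_iso : isoChk t1m = true := by decide +kernel
theorem h28_t1_sq : mm t1m t1m = one7 := by decide +kernel
theorem h28_t1_conj : mm t1m (rep 3) = mm (rep 4) t1m := by decide +kernel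

theorem h28_t1_facts (t : GO) (ht : Rep t t1m) :
    InP3 t ∧ (aX t).det = -1 ∧ eps t = 1 := by
  have hm : t.mat = t1m.toMat := ht
  refine ⟨?_, ?_, ?_⟩
  · intro j
    rw [hm]
    refine ⟨?_, fun i => ?_⟩
    · fin_cases j <;> simp [t1m, M7.toMat, M7.col, V7.toVec, Helper12.O73.vec]
    · fin_cases j <;> fin_cases i <;> simp [t1m, M7.toMat, M7.col, V7.toVec, Helper12.O73.vec]
  · rw [Matrix.det_fin_three]
    simp only [aX, Matrix.of_apply]
    rw [hm]
    simp [t1m, M7.toMat, M7.col, V7.toVec, Helper12.O73.vec]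
    decide
  · simp only [eps]
    rw [hm]
    simp [t1m, M7.toMat, M7.col, V7.toVec, Helper12.O73.vec]

theorem h28_split_C (r3 r4 h : GO) (h3 : Rep r3 (rep 3)) (h4 : Rep r4 (rep 4)) (hO : h ∈ Om) :
    h * r3 * h⁻¹ ≠ r4 ∧ h * r3 * h⁻¹ ≠ r4 ^ 2 := by
  obtain ⟨t, ht⟩ := h28_exists_rep t1m h28_t1m_iso
  have ht2 : t * t = 1 := by
    have := rep_mul ht ht
    rw [h28_t1_sq] at this
    exact rep_ext this rep_one
  have htinv : t⁻¹ = t := inv_eq_of_mul_eq_one_right ht2
  have htr : t * r3 = r4 * t := by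
    have h1 := rep_mul ht h3
    have h2 := rep_mul h4 ht
    rw [h28_t1_conj] at h1
    exact rep_ext h1 h2
  have htr' : t * r4 * t = r3 := by
    rw [mul_assoc, ← htr, ← mul_assoc, ht2, one_mul]
  obtain ⟨htP, htdet, hteps⟩ := h28_t1_facts t ht
  have key : ∀ (e : h * r3 * h⁻¹ = r4 ∨ h * r3 * h⁻¹ = r4 ^ 2), False := by
    intro e
    have hn : (t * h) * r3 * (t * h)⁻¹ = r3 ∨ (t * h) * r3 * (t * h)⁻¹ = r3 ^ 2 := by
      have e0 : (t * h) * r3 * (t * h)⁻¹ = t * (h * r3 * h⁻¹) * t := by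
        rw [_root_.mul_inv_rev, htinv]; group
      rcases e with e | e
      · left
        rw [e0, e, htr']
      · right
        rw [e0, e, ← htr', pow_two, pow_two]
        calc t * (r4 * r4) * t = t * r4 * (t * t) * r4 * t := by rw [ht2]; group
          _ = t * r4 * t * (t * r4 * t) := by group
    obtain ⟨hnP, hndet⟩ := split_A r3 (t * h) h3 hn
    have hh : h = t * (t * h) := by rw [← mul_assoc, ht2, one_mul]
    obtain ⟨p1, p2, p3⟩ := p3_mul t (t * h) htP hnP
    rw [← hh] at p1 p2 p3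
    obtain ⟨b1, b2⟩ := split_B h hO p1
    rw [p2, Matrix.det_mul, htdet, hndet] at b1
    rw [p3, hteps, one_mul] at b2
    rw [b2] at b1
    revert b1
    decide
  exact ⟨fun e => key (Or.inl e), fun e => key (Or.inr e)⟩

end Cfsg.Agent.Lib.Helper28.O73C
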