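import Cfsg.Agent.Lib.Helper28.O73C.Defs
import Cfsg.Agent.Lib.Helper28.O73C.DataBasic
import Cfsg.Agent.Lib.Helper13.O73CCR
import Cfsg.Agent.Lib.Helper28.O73C.Iso
import Cfsg.Agent.Lib.Helper13.O73CCF
import Cfsg.Agent.Lib.Helper29.O73CUA
import Cfsg.Agent.Lib.Helper16.O73COO
import Cfsg.Agent.S0286

/-!
Project O73C (S5514), piece UB: the flag-unitriangular isometries form a Sylow 3-subgroup of `Ω`,
parametrised by `Mp` (helper28).
-/

set_option autoImplicit false

namespace Cfsg.Agent.Lib.Helper28.O73C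

open Cfsg.Agent.Lib.Helper12.O73

theorem h28_fu_pow (g : GO) (hg : IsFU g) (k : ℕ) : IsFU (g ^ k) := by
  induction k with
  | zero => rw [pow_zero]; exact fu_one
  | succ k ih => rw [pow_succ]; exact fu_mul _ _ ih hg

/-- the flag-unitriangular isometries as a subgroup -/
def h28_U : Subgroup GO where
  carrier := {g | IsFU g}
  mul_mem' := fun {a b} ha hb => fu_mul a b ha hb
  one_mem' := fu_one
  inv_mem' := by
    intro g hg
    have h9 := fu_pow_nine g hg
    have : g⁻¹ = g ^ 8 := by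
      apply inv_eq_of_mul_eq_one_right
      rw [← pow_succ', h9]
    rw [this]
    exact h28_fu_pow g hg 8

theorem h28_mem_U (g : GO) : g ∈ h28_U ↔ IsFU g := Iff.rfl

theorem h28_U_pgroup : IsPGroup 3 h28_U := by
  intro g
  refine ⟨2, ?_⟩
  apply Subtype.ext
  have := fu_pow_nine g.1 g.2
  simpa using this

theorem h28_lt3 (a : ℕ) : decide (a % 3 < 3) = true := by
  rw [decide_eq_true_eq]; exact Nat.mod_lt _ (by norm_num)

theorem h28_Mp_red (n : ℕ) : (Mp n).red = true := by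
  simp only [Mp, M7.red, V7.red, Bool.and_eq_true]
  refine ⟨⟨⟨⟨⟨⟨?_, ?_⟩, ?_⟩, ?_⟩, ?_⟩, ?_⟩, ?_⟩ <;>
    refine ⟨⟨⟨⟨⟨⟨?_, ?_⟩, ?_⟩, ?_⟩, ?_⟩, ?_⟩, ?_⟩ <;>
    first | exact h28_lt3 _ | rfl

/-- the element of `U` with parameter `n` -/
noncomputable def h28_el (n : Fin 19683) : h28_U :=
  ⟨(h28_exists_rep (Mp n) (basic_all n n.2).1).choose,
    isFU_of_fuChk (h28_exists_rep (Mp n) (basic_all n n.2).1).choose_spec (basic_all n n.2).2.1⟩

theorem h28_el_rep (n : Fin 19683) : Rep (h28_el n : GO) (Mp n) :=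
  (h28_exists_rep (Mp n) (basic_all n n.2).1).choose_spec

theorem h28_el_inj : Function.Injective h28_el := by
  intro n m h
  have h1 := h28_el_rep n
  rw [h] at h1
  have h2 := rep_unique h1 (h28_el_rep m) (h28_Mp_red _) (h28_Mp_red _)
  apply Fin.ext
  rw [← (basic_all n n.2).2.2, ← (basic_all m m.2).2.2, h2]

theorem h28_card_GO : Nat.card GO = 2 * 3 ^ 9 * (8 * 80 * 728) := by
  have h := Cfsg.Agent.S0286.result (F := K) (q := 3) (by simp) (by decide) 3
  rw [h]
  norm_num [Finset.prod_range_succ]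

theorem h28_card_U : Nat.card h28_U = 19683 := by
  obtain ⟨k, hk⟩ := (IsPGroup.iff_card (p := 3)).mp h28_U_pgroup
  have hdvd : Nat.card h28_U ∣ Nat.card GO := Subgroup.card_subgroup_dvd_card h28_U
  have hge : 19683 ≤ Nat.card h28_U := by
    have := Nat.card_le_card_of_injective h28_el h28_el_inj
    simpa using this
  rw [hk, h28_card_GO] at hdvd
  rw [hk] at hge ⊢
  have hk9 : k ≤ 9 := by
    by_contra hlt
    push Not at hlt
    have h10 : 3 ^ 10 ∣ 3 ^ k := pow_dvd_pow 3 hlt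
    have := h10.trans hdvd
    norm_num at this
  have hk9' : 9 ≤ k := by
    by_contra hlt
    push Not at hlt
    have : 3 ^ k ≤ 3 ^ 8 := Nat.pow_le_pow_right (by norm_num) (by omega)
    norm_num at this
    omega
  have : k = 9 := le_antisymm hk9 hk9'
  rw [this]
  norm_num

theorem h28_el_surj : Function.Surjective h28_el := by
  have hfin : Finite h28_U := inferInstance
  have hbij : Function.Bijective h28_el := by
    rw [Nat.bijective_iff_injective_and_card]
    refine ⟨h28_el_inj, ?_⟩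
    rw [h28_card_U]
    simp
  exact hbij.2

theorem fu_param (g : GO) (hg : IsFU g) : ∃ n, n < 19683 ∧ Rep g (Mp n) := by
  obtain ⟨n, hn⟩ := h28_el_surj ⟨g, hg⟩
  refine ⟨n, n.2, ?_⟩
  have := h28_el_rep n
  rw [hn] at this
  exact this

theorem h28_U_le : h28_U ≤ Om := by
  intro g hg
  exact mem_Om_of_pow_nine g (fu_pow_nine g hg)

/-- `U` inside `Ω` -/
def h28_P : Subgroup ↥Om := h28_U.subgroupOf Om

theorem h28_P_pgroup : IsPGroup 3 h28_P := by
  intro g
  refine ⟨2, ?_⟩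
  apply Subtype.ext
  apply Subtype.ext
  have hg : IsFU (g.1 : GO) := g.2
  have := fu_pow_nine (g.1 : GO) hg
  simpa using this

theorem h28_card_P : Nat.card h28_P = 19683 := by
  rw [← h28_card_U]
  exact Nat.card_congr (Subgroup.subgroupOfEquivOfLe h28_U_le).toEquiv

theorem h28_P_index : ¬ 3 ∣ h28_P.index := by
  intro h3
  have h1 : Nat.card h28_P * h28_P.index = Nat.card ↥Om := Subgroup.card_mul_index h28_P
  have h2 : Nat.card ↥Om ∣ Nat.card GO := Subgroup.card_subgroup_dvd_card Om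
  rw [← h1, h28_card_P, h28_card_GO] at h2
  obtain ⟨c, hc⟩ := h3
  rw [hc] at h2
  have : (19683 * 3) ∣ 2 * 3 ^ 9 * (8 * 80 * 728) := Dvd.dvd.trans ⟨c, by ring⟩ h2
  norm_num at this

theorem sylow_conj (g : GO) (hg : g ∈ Om) (h3 : g ^ 3 = 1) :
    ∃ h : GO, h ∈ Om ∧ IsFU (h * g * h⁻¹) := by
  have : Fact (Nat.Prime 3) := ⟨by norm_num⟩
  let S0 : Sylow 3 ↥Om := h28_P_pgroup.toSylow h28_P_index
  let x : ↥Om := ⟨g, hg⟩
  have hx : IsPGroup 3 (Subgroup.zpowers x) := by
    rw [IsPGroup.iff_card]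
    refine ⟨if x = 1 then 0 else 1, ?_⟩
    rw [Nat.card_zpowers]
    by_cases h1 : x = 1
    · rw [if_pos h1, h1, orderOf_one, pow_zero]
    · rw [if_neg h1, pow_one]
      apply orderOf_eq_prime
      · apply Subtype.ext
        simpa using h3
      · exact h1
  obtain ⟨S, hS⟩ := hx.exists_le_sylow
  obtain ⟨h, hh⟩ := MulAction.exists_smul_eq ↥Om S S0
  refine ⟨h.1, h.2, ?_⟩
  have hxS : x ∈ (S : Subgroup ↥Om) := hS (Subgroup.mem_zpowers x)
  have h1 : h * x * h⁻¹ ∈ ((h • S : Sylow 3 ↥Om) : Subgroup ↥Om) := by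
    rw [Sylow.coe_subgroup_smul]
    have := Subgroup.smul_mem_pointwise_smul x (MulAut.conj h) (S : Subgroup ↥Om) hxS
    simpa [MulAut.smul_def] using this
  rw [hh] at h1
  have h2 : h * x * h⁻¹ ∈ h28_P := by
    simpa [S0] using h1
  exact h2

end Cfsg.Agent.Lib.Helper28.O73C
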