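import Cfsg.Agent.Lib.Helper28.O73C.Defs
import Cfsg.Agent.Lib.Helper28.O73C.DataBasic
import Cfsg.Agent.Lib.Helper28.O73C.DataCert
import Cfsg.Agent.Lib.Helper28.O73C.Syl
import Cfsg.Agent.Lib.Helper28.O73C.Sound
import Cfsg.Agent.Lib.Helper13.O73CCR
import Cfsg.Agent.Lib.Helper28.O73C.Iso
import Cfsg.Agent.Lib.Helper16.O73COO
import Cfsg.Agent.Lib.helper23.O73CIN
import Cfsg.Agent.Lib.Helper28.O73C.SplitC
import Cfsg.Agent.Lib.Helper28.O73C.Gen
import Cfsg.Agent.Lib.Helper16.OL13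
import Cfsg.Agent.Lib.Helper16.SpinG2

/-!
Project O73C (S5514): the assembly (helper28).
-/

set_option autoImplicit false

namespace Cfsg.Agent.Lib.Helper28.O73C

open Cfsg.Agent.Lib.Helper12.O73 Cfsg.Agent.Lib.Helper16

theorem h28_two_ne : (2 : K) ≠ 0 := by decide

theorem h28_Q7_nondeg : (QuadraticMap.polarBilin Q7).Nondegenerate := by
  have hleft : ∀ x : I7 → K, (∀ y, QuadraticMap.polarBilin Q7 x y = 0) → x = 0 := by
    intro x hx
    funext k
    rcases k with k | i | i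
    · have := hx (Pi.single (Sum.inl ()) 1)
      rw [QuadraticMap.polarBilin_apply_apply, Q7_coe, polar_odd] at this
      have h3 : 2 * x (Sum.inl ()) = 0 := by simpa [Pi.single_apply] using this
      rcases mul_eq_zero.1 h3 with h | h
      · exact absurd h h28_two_ne
      · cases k
        exact h
    · have := hx (Pi.single (Sum.inr (Sum.inr i)) 1)
      rw [QuadraticMap.polarBilin_apply_apply, Q7_coe, polar_odd] at this
      simpa [Pi.single_apply] using this
    · have := hx (Pi.single (Sum.inr (Sum.inl i)) 1)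
      rw [QuadraticMap.polarBilin_apply_apply, Q7_coe, polar_odd] at this
      simpa [Pi.single_apply] using this
  refine ⟨hleft, ?_⟩
  intro y hy
  apply hleft
  intro x
  have := hy x
  rw [QuadraticMap.polarBilin_apply_apply] at this ⊢
  rw [QuadraticMap.polar_comm]; exact this

/-- `PΩ_7(3)` is `Ω_7(3)` -/
noncomputable def h28_equiv : Cfsg.POmega K (Cfsg.quadFormOdd 3 K) ≃* ↥Om :=
  OL.omegaEquivPOmega Q7 h28_two_ne h28_Q7_nondeg (by simp) 3 (by simp)

set_option maxRecDepth 100000 in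
theorem h28_rep_red : ∀ k < 7, (rep k).red = true := by decide +kernel

theorem h28_rep_iso (k : ℕ) (hk : k < 7) : isoChk (rep k) = true := by
  have : repN k < 19683 := by
    interval_cases k <;> decide
  exact (basic_all _ this).1

/-- the representatives as isometries -/
noncomputable def h28_r0 (k : Fin 7) : GO := (h28_exists_rep (rep k) (h28_rep_iso k k.2)).choose

theorem h28_r0_rep (k : Fin 7) : Rep (h28_r0 k) (rep k) :=
  (h28_exists_rep (rep k) (h28_rep_iso k k.2)).choose_spec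

set_option maxRecDepth 100000 in
theorem h28_rep_cube : ∀ k < 7, mm (rep k) (mm (rep k) (rep k)) = one7 := by decide +kernel

set_option maxRecDepth 100000 in
theorem h28_rep_ne : ∀ k < 7, rep k ≠ one7 := by decide +kernel

theorem h28_r0_cube (k : Fin 7) : h28_r0 k ^ 3 = 1 := by
  have h1 := rep_mul (h28_r0_rep k) (rep_mul (h28_r0_rep k) (h28_r0_rep k))
  rw [h28_rep_cube k k.2] at h1
  have := rep_ext h1 rep_one
  rw [pow_succ, pow_two, mul_assoc]
  exact this

theorem h28_one7_red : one7.red = true := by decide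

theorem h28_r0_ne (k : Fin 7) : h28_r0 k ≠ 1 := by
  intro h
  have h1 := h28_r0_rep k
  rw [h] at h1
  exact h28_rep_ne k k.2 (rep_unique h1 rep_one (h28_rep_red k k.2) h28_one7_red)

/-- the representatives in `Ω` -/
noncomputable def h28_r (k : Fin 7) : ↥Om := ⟨h28_r0 k, mem_Om_of_pow_three _ (h28_r0_cube k)⟩

theorem h28_r_order (k : Fin 7) : orderOf (h28_r k) = 3 := by
  have : Fact (Nat.Prime 3) := ⟨by norm_num⟩
  apply orderOf_eq_prime
  · apply Subtype.ext
    rw [Subgroup.coe_pow]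
    exact h28_r0_cube k
  · intro h
    exact h28_r0_ne k (congrArg Subtype.val h)

theorem h28_classA (g : ↥Om) (hg : orderOf g = 3) :
    ∃ i, ∃ h : ↥Om, h * g * h⁻¹ = h28_r i ∨ h * g * h⁻¹ = (h28_r i) ^ 2 := by
  have hg3 : (g : GO) ^ 3 = 1 := by
    have h0 : g ^ orderOf g = 1 := pow_orderOf_eq_one g
    have : g ^ 3 = 1 := by
      have e : g ^ orderOf g = g ^ 3 := congrArg (fun k => g ^ k) hg
      rw [← e]; exact h0
    have := congrArg Subtype.val this
    simpa using this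
  have hg1 : (g : GO) ≠ 1 := by
    intro h
    have : g = 1 := Subtype.ext h
    rw [this, orderOf_one] at hg
    omega
  obtain ⟨h, hh, hfu⟩ := sylow_conj (g : GO) g.2 hg3
  obtain ⟨n, hn, hrep⟩ := fu_param _ hfu
  obtain ⟨c, hc⟩ := cert_all n hn
  have h1' : h * (g : GO) * h⁻¹ ≠ 1 := by
    intro h0
    apply hg1
    have := congrArg (fun z => h⁻¹ * z * h) h0
    simpa [mul_assoc] using this
  have h3' : (h * (g : GO) * h⁻¹) ^ 3 = 1 := by
    rw [conj_pow, hg3, mul_one, mul_inv_cancel]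
  obtain ⟨k, hk, h', hh', r', hr', hconj⟩ := chk_sound n c _ hn hrep hc h1' h3'
  have hr0 : r' = h28_r0 ⟨k, hk⟩ := rep_ext hr' (h28_r0_rep ⟨k, hk⟩)
  refine ⟨⟨k, hk⟩, ⟨h' * h, Om.mul_mem hh' hh⟩, ?_⟩
  have e : h' * (h * (g : GO) * h⁻¹) * h'⁻¹ = (h' * h) * (g : GO) * (h' * h)⁻¹ := by group
  rcases hconj with hc1 | hc1
  · left
    apply Subtype.ext
    change (h' * h) * (g : GO) * (h' * h)⁻¹ = h28_r0 ⟨k, hk⟩
    rw [← e, hc1, hr0]
  · right
    apply Subtype.ext
    change (h' * h) * (g : GO) * (h' * h)⁻¹ = (h28_r0 ⟨k, hk⟩) ^ 2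
    rw [← e, hc1, hr0]

theorem h28_classB (i j : Fin 7) (h : ↥Om)
    (hh : h * h28_r i * h⁻¹ = h28_r j ∨ h * h28_r i * h⁻¹ = (h28_r j) ^ 2) : i = j := by
  by_contra hne
  have hne' : (i : ℕ) ≠ (j : ℕ) := fun h => hne (Fin.ext h)
  have hh' : (h : GO) * h28_r0 i * (h : GO)⁻¹ = h28_r0 j ∨
      (h : GO) * h28_r0 i * (h : GO)⁻¹ = (h28_r0 j) ^ 2 := by
    rcases hh with hh | hh
    · left; exact congrArg Subtype.val hh
    · right; exact congrArg Subtype.val hh
  by_cases h34 : (i : ℕ) = 3 ∧ (j : ℕ) = 4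
  · have hi : i = ⟨3, by norm_num⟩ := Fin.ext h34.1
    have hj : j = ⟨4, by norm_num⟩ := Fin.ext h34.2
    subst hi hj
    have := h28_split_C _ _ (h : GO) (h28_r0_rep ⟨3, by norm_num⟩) (h28_r0_rep ⟨4, by norm_num⟩) h.2
    rcases hh' with hh' | hh'
    · exact this.1 hh'
    · exact this.2 hh'
  by_cases h43 : (i : ℕ) = 4 ∧ (j : ℕ) = 3
  · have hi : i = ⟨4, by norm_num⟩ := Fin.ext h43.1
    have hj : j = ⟨3, by norm_num⟩ := Fin.ext h43.2
    subst hi hj
    have := h28_split_C _ _ ((h : GO)⁻¹) (h28_r0_rep ⟨3, by norm_num⟩) (h28_r0_rep ⟨4, by norm_num⟩)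
      (Om.inv_mem h.2)
    rw [inv_inv] at this
    have h3c := h28_r0_cube ⟨3, by norm_num⟩
    have h4c := h28_r0_cube ⟨4, by norm_num⟩
    rcases hh' with hh' | hh'
    · apply this.1
      rw [← hh']
      group
    · apply this.2
      -- h r4 h⁻¹ = r3² ⇒ h⁻¹ r3 h = r4²
      have e1 : h28_r0 ⟨3, by norm_num⟩ = ((h28_r0 ⟨3, by norm_num⟩) ^ 2) ^ 2 := by
        rw [← pow_mul]
        calc h28_r0 ⟨3, by norm_num⟩ = h28_r0 ⟨3, by norm_num⟩ * 1 := (mul_one _).symm
          _ = h28_r0 ⟨3, by norm_num⟩ * (h28_r0 ⟨3, by norm_num⟩) ^ 3 := by rw [h3c]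
          _ = _ := by rw [← pow_succ']
      rw [e1, ← hh', conj_pow]
      group
  · have := inv_sep i j i.2 j.2 hne' h34 h43 _ _ (h : GO) (h28_r0_rep i) (h28_r0_rep j)
    rcases hh' with hh' | hh'
    · exact this.1 hh'
    · exact this.2 hh'

/-- S5514 -/
theorem main : ∃ Y : Fin 7 → Subgroup (Cfsg.POmega (ZMod 3) (Cfsg.quadFormOdd 3 (ZMod 3))),
    (∀ i, Nat.card (Y i) = 3) ∧
    (∀ i j, (∃ g : Cfsg.POmega (ZMod 3) (Cfsg.quadFormOdd 3 (ZMod 3)),
      (Y i).map (MulAut.conj g).toMonoidHom = Y j) → i = j) ∧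
    (∀ X : Subgroup (Cfsg.POmega (ZMod 3) (Cfsg.quadFormOdd 3 (ZMod 3))), Nat.card X = 3 →
      ∃ i, ∃ g : Cfsg.POmega (ZMod 3) (Cfsg.quadFormOdd 3 (ZMod 3)),
        X.map (MulAut.conj g).toMonoidHom = Y i) :=
  subgroup_classes_of_equiv h28_equiv h28_r h28_r_order h28_classA h28_classB

end Cfsg.Agent.Lib.Helper28.O73C
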